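import Cfsg.Agent.Lib.HallE8.Solvable
import Cfsg.Agent.S0003
import Cfsg.Agent.S0071

/-!
Every finite group in which `2`, `12` or `24` is the order of a Hall set has the corresponding Hall subgroup.
-/

set_option autoImplicit false
set_option linter.unusedSectionVars false
set_option linter.style.haveILetI false

namespace CfsgLib.HallNumbers

open Cfsg Subgroup

universe u

theorem not_prime_mul_dvd {n m p : ℕ} (hp : p.Prime) (hm : m ∣ n) (hc : m.Coprime (n / m)) (hpm : p ∣ m) {k : ℕ}
    (hk : ¬ p ^ k ∣ m) : ¬ p ^ k ∣ n := by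
  intro h
  rw [← Nat.mul_div_cancel' hm] at h
  exact hk (Nat.Coprime.dvd_of_dvd_mul_right ((hc.coprime_dvd_left hpm).pow_left k) h)

theorem not_four_dvd_of_mod {n m : ℕ} (hm : m ∣ n) (hc : m.Coprime (n / m)) (h4 : m % 4 = 2) : ¬ 2 ^ 2 ∣ n :=
  not_prime_mul_dvd Nat.prime_two hm hc (by omega) (by omega)

variable {G : Type u} [Group G] [Finite G]

/-- A solvable subgroup of order divisible by `m` contains a Hall subgroup of order `m`. -/
theorem hall_in {m : ℕ} (H : Subgroup G) (hH : Group.IsSolvable H) (hm : m ∣ Nat.card H)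
    (hc : m.Coprime (Nat.card G / m)) : ∃ K : Subgroup G, Nat.card K = m := by
  haveI := hH
  obtain ⟨K, hK⟩ := Cfsg.Agent.S0003.result m (Nat.card H / m) (Nat.mul_div_cancel' hm).symm
    (hc.coprime_dvd_right (Nat.div_dvd_div hm (card_subgroup_dvd_card H)))
  exact ⟨K.map H.subtype, by rw [card_map_of_injective H.subtype_injective, hK]⟩

theorem hall_of_solvable {m : ℕ} (hG : Group.IsSolvable G) (hm : m ∣ Nat.card G)
    (hc : m.Coprime (Nat.card G / m)) : ∃ K : Subgroup G, Nat.card K = m := by
  haveI := hG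
  exact hall_in ⊤ inferInstance (by rwa [card_top]) hc

/-- A Sylow `2`-subgroup with a normal complement makes the group solvable. -/
theorem solvable_of_complement [Fact (Nat.Prime 2)] (S : Sylow 2 G) {N : Subgroup G} [N.Normal]
    (hN : N.IsComplement' (S : Subgroup G)) : Group.IsSolvable G := by
  refine HallE8.isSolvable_of_ext N (HallE8.isSolvable_of_odd ?_) ?_
  · intro hd
    have h1 : 2 ^ ((Nat.card G).factorization 2 + 1) ∣ Nat.card G := by
      have e := Nat.mul_dvd_mul_right hd (Nat.card (S : Subgroup G))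
      rw [hN.card_mul_card, S.card_eq_multiplicity] at e
      rwa [pow_succ']
    exact Nat.pow_succ_factorization_not_dvd Nat.card_pos.ne' Nat.prime_two h1
  · have hp : IsPGroup 2 (G ⧸ N) := IsPGroup.of_card (n := (Nat.card G).factorization 2) (by
      rw [← Subgroup.index_eq_card, hN.symm.index_eq_card, S.card_eq_multiplicity])
    haveI := hp.isNilpotent
    infer_instance

theorem solvable_of_cyclic [Fact (Nat.Prime 2)] (S : Sylow 2 G) [IsCyclic (S : Subgroup G)] :
    Group.IsSolvable G := by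
  by_cases h2 : 2 ∣ Nat.card G
  · have hmin : (Nat.card G).minFac = 2 := (Nat.minFac_eq_two_iff _).mpr h2
    haveI := ‹IsCyclic (S : Subgroup G)›
    exact solvable_of_complement S
      (MonoidHom.ker_transferSylow_isComplement' S (IsCyclic.normalizer_le_centralizer (P := S) hmin inferInstance))
  · exact HallE8.isSolvable_of_odd h2

theorem solvable_of_not_four (h : ¬ 2 ^ 2 ∣ Nat.card G) : Group.IsSolvable G := by
  haveI : Fact (Nat.Prime 2) := ⟨Nat.prime_two⟩
  obtain ⟨S⟩ := (inferInstance : Nonempty (Sylow 2 G))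
  have hc : Nat.card (S : Subgroup G) ∣ 2 := by
    obtain ⟨k, hk⟩ := IsPGroup.iff_card.mp S.2
    rw [hk]
    rcases Nat.lt_or_ge k 2 with hlt | hge
    · exact (pow_dvd_pow 2 (Nat.le_of_lt_succ hlt)).trans (by norm_num)
    · exact absurd ((pow_dvd_pow 2 hge).trans (hk ▸ card_subgroup_dvd_card _)) h
  haveI : IsCyclic (S : Subgroup G) := by
    rcases (Nat.dvd_prime Nat.prime_two).mp hc with e | e
    · haveI := (Nat.card_eq_one_iff_unique.mp e).1
      infer_instance
    · exact isCyclic_of_prime_card e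
  exact solvable_of_cyclic S

/-- An element normalizing a subgroup `V` of order four with an odd power centralizing it centralizes it unless its
order is divisible by three. -/
theorem cent_of_four {V : Subgroup G} (hV : Nat.card V = 4) {w : G} (hw : w ∈ normalizer (V : Set G)) {j : ℕ}
    (hj : Odd j) (hwj : w ^ j ∈ centralizer (V : Set G)) (h3 : ¬ 3 ∣ orderOf w) :
    w ∈ centralizer (V : Set G) := by
  let σ : Equiv.Perm V := (Subgroup.normalizerMonoidHom V ⟨w, hw⟩).toEquiv
  have hσpow : ∀ k : ℕ, ∀ v : V, ((σ ^ k) v : G) = w ^ k * v * (w ^ k)⁻¹ := by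
    intro k
    induction k with
    | zero => intro v; simp
    | succ k ih =>
      intro v
      rw [pow_succ', Equiv.Perm.mul_apply]
      show w * ((σ ^ k) v : G) * w⁻¹ = _
      rw [ih, pow_succ' w k]; group
  have hσj : σ ^ j = 1 := Equiv.ext fun v => Subtype.ext (by
    rw [hσpow, Equiv.Perm.one_apply, ← mem_centralizer_iff.mp hwj v v.2, mul_inv_cancel_right])
  have hσo : σ ^ orderOf w = 1 := Equiv.ext fun v => Subtype.ext (by
    rw [hσpow, pow_orderOf_eq_one]; simp)
  have hσ1 : orderOf σ = 1 := by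
    have h24 : orderOf σ ∣ 24 := by
      have := orderOf_dvd_natCard σ
      rwa [Nat.card_perm, hV] at this
    have h8 : Nat.Coprime (orderOf σ) 8 :=
      (Nat.coprime_two_right.mpr (Odd.of_dvd_nat hj (orderOf_dvd_of_pow_eq_one hσj))).pow_right 3
    have h3' : Nat.Coprime (orderOf σ) 3 := ((Nat.prime_three.coprime_iff_not_dvd).mpr
      fun hd => h3 (hd.trans (orderOf_dvd_of_pow_eq_one hσo))).symm
    exact (Nat.Coprime.mul_right h8 h3').eq_one_of_dvd h24
  refine mem_centralizer_iff.mpr fun v hv => ?_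
  have e := hσpow 1 ⟨v, hv⟩
  rw [pow_one, orderOf_eq_one_iff.mp hσ1, pow_one, Equiv.Perm.one_apply] at e
  exact eq_mul_inv_iff_mul_eq.mp e

theorem sylow_card_four (h4 : 2 ^ 2 ∣ Nat.card G) (h8 : ¬ 2 ^ 3 ∣ Nat.card G) (V : Sylow 2 G) :
    Nat.card (V : Subgroup G) = 4 := by
  haveI : Fact (Nat.Prime 2) := ⟨Nat.prime_two⟩
  have h1 := V.pow_dvd_card_of_pow_dvd_card h4
  obtain ⟨k, hk⟩ := IsPGroup.iff_card.mp V.2
  have hk3 : k < 3 := by
    by_contra hc
    push Not at hc
    exact h8 ((pow_dvd_pow 2 hc).trans (hk ▸ card_subgroup_dvd_card _))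
  rw [hk] at h1 ⊢
  have := Nat.pow_dvd_pow_iff_le_right (show 1 < 2 by norm_num) |>.mp h1
  rw [show k = 2 by omega]; norm_num

/-- In a nonsolvable group with a Sylow `2`-subgroup `V` of order four, `3` divides the order of `N(V)`. -/
theorem three_dvd_normalizer (hns : ¬ Group.IsSolvable G) (h4 : 2 ^ 2 ∣ Nat.card G)
    (h8 : ¬ 2 ^ 3 ∣ Nat.card G) (V : Sylow 2 G) : 3 ∣ Nat.card (normalizer ((V : Subgroup G) : Set G)) := by
  haveI : Fact (Nat.Prime 2) := ⟨Nat.prime_two⟩
  have hV := sylow_card_four h4 h8 V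
  by_contra h3
  have hcomm : ∀ a b : (V : Subgroup G), a * b = b * a :=
    IsPGroup.commutative_of_card_eq_prime_sq (p := 2) (by rw [hV]; norm_num)
  refine hns (solvable_of_complement V (MonoidHom.ker_transferSylow_isComplement' V fun w hw => ?_))
  obtain ⟨k, j, hj, hkj⟩ := Nat.exists_eq_two_pow_mul_odd (orderOf_pos w).ne'
  have h2 : w ^ j ∈ (V : Subgroup G) := by
    refine CfsgLib.E8Solv.mem_sylow_of_normalizes V ⟨k, ?_⟩ (pow_mem hw j)
    rw [orderOf_pow_of_dvd hj.pos.ne' (hkj ▸ dvd_mul_left j _), hkj, Nat.mul_div_cancel _ hj.pos]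
  refine cent_of_four hV hw hj (mem_centralizer_iff.mpr fun v hv => ?_) fun hd =>
    h3 (hd.trans (Subgroup.orderOf_dvd_natCard _ hw))
  exact congrArg Subtype.val (hcomm ⟨v, hv⟩ ⟨_, h2⟩)

theorem solvable_of_normal_sylow (S : Sylow 2 G) [(S : Subgroup G).Normal] : Group.IsSolvable G := by
  haveI : Fact (Nat.Prime 2) := ⟨Nat.prime_two⟩
  refine HallE8.isSolvable_of_ext (S : Subgroup G) ?_ (HallE8.isSolvable_of_odd ?_)
  · haveI := S.2.isNilpotent
    infer_instance
  · rw [← Subgroup.index_eq_card]; exact S.not_dvd_index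

theorem solvable_normalizer (S : Sylow 2 G) : Group.IsSolvable (normalizer ((S : Subgroup G) : Set G)) := by
  haveI : Fact (Nat.Prime 2) := ⟨Nat.prime_two⟩
  haveI : ((S.subtype le_normalizer : Sylow 2 (normalizer ((S : Subgroup G) : Set G))) :
      Subgroup (normalizer ((S : Subgroup G) : Set G))).Normal := by
    rw [Sylow.coe_subtype]; exact normal_in_normalizer
  exact solvable_of_normal_sylow (S.subtype le_normalizer)

theorem hall_two {m : ℕ} (h4 : m % 4 = 2) (hm : m ∣ Nat.card G) (hc : m.Coprime (Nat.card G / m)) :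
    ∃ K : Subgroup G, Nat.card K = m :=
  hall_of_solvable (solvable_of_not_four (not_four_dvd_of_mod hm hc h4)) hm hc

theorem hall_twelve (hm : 12 ∣ Nat.card G) (hc : Nat.Coprime 12 (Nat.card G / 12)) :
    ∃ K : Subgroup G, Nat.card K = 12 := by
  haveI : Fact (Nat.Prime 2) := ⟨Nat.prime_two⟩
  by_cases hG : Group.IsSolvable G
  · exact hall_of_solvable hG hm hc
  have h4 : 2 ^ 2 ∣ Nat.card G := (by norm_num : 2 ^ 2 ∣ 12).trans hm
  have h8 : ¬ 2 ^ 3 ∣ Nat.card G := not_prime_mul_dvd Nat.prime_two hm hc (by norm_num) (by norm_num)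
  obtain ⟨V⟩ := (inferInstance : Nonempty (Sylow 2 G))
  refine hall_in _ (solvable_normalizer V) ?_ hc
  exact Nat.Coprime.mul_dvd_of_dvd_of_dvd (m := 4) (n := 3) (by norm_num)
    ((sylow_card_four h4 h8 V).symm ▸ card_dvd_of_le le_normalizer) (three_dvd_normalizer hG h4 h8 V)

/-- An automorphism of odd order prime to three of a group of order eight forces exponent two. -/
theorem sq_of_action {S : Subgroup G} (hS : Nat.card S = 8) {g : G} (hg : g ∈ normalizer (S : Set G))
    (hodd : ¬ 2 ∣ orderOf g) (h3 : ¬ 3 ∣ orderOf g) (hne : g ∉ centralizer (S : Set G)) :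
    ∀ s ∈ S, s * s = 1 := by
  classical
  haveI := Fintype.ofFinite G
  set f : G → G := fun w => g * w * g⁻¹ with hf
  have hfk : ∀ (k : ℕ) (w : G), f^[k] w = g ^ k * w * (g ^ k)⁻¹ := by
    intro k
    induction k with
    | zero => intro w; simp
    | succ k ih => intro w; rw [Function.iterate_succ_apply', ih, hf, pow_succ']; group
  set A : Finset G := Finset.univ.filter fun w => w ∈ S ∧ f w ≠ w with hA
  have hinj : Function.Injective f := fun a b e => mul_left_cancel (mul_right_cancel e)
  set O : G → Finset G := fun x => (Finset.range (Function.minimalPeriod f x)).image fun k => f^[k] x with hO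
  have hper : ∀ x, Function.IsPeriodicPt f (orderOf g) x := fun x => by
    show f^[orderOf g] x = x
    rw [hfk, pow_orderOf_eq_one]; group
  have hOcard : ∀ x, (O x).card = Function.minimalPeriod f x := fun x => by
    rw [hO, Finset.card_image_of_injOn, Finset.card_range]
    exact fun a ha b hb e => Function.iterate_injOn_Iio_minimalPeriod (f := f) (x := x)
      (Finset.mem_range.mp ha) (Finset.mem_range.mp hb) e
  have hbig : ∀ x ∈ A, 5 ≤ (O x).card := by
    intro x hx
    simp only [hA, Finset.mem_filter, Finset.mem_univ, true_and] at hx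
    rw [hOcard]
    have hd := (hper x).minimalPeriod_dvd
    have h0 := (hper x).minimalPeriod_pos (orderOf_pos g)
    have h2 : ¬ 2 ∣ Function.minimalPeriod f x := fun e => hodd (e.trans hd)
    have h3' : ¬ 3 ∣ Function.minimalPeriod f x := fun e => h3 (e.trans hd)
    have h1 : Function.minimalPeriod f x ≠ 1 := fun e => hx.2 (by
      have := Function.iterate_minimalPeriod (f := f) (x := x)
      rwa [e, Function.iterate_one] at this)
    omega
  have hfS : ∀ k, ∀ w ∈ S, f^[k] w ∈ S := fun k w hw => by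
    rw [hfk]; exact (mem_normalizer_iff.mp (pow_mem hg k) w).mp hw
  have hsub : ∀ x ∈ A, O x ⊆ A := by
    intro x hx y hy
    simp only [hA, Finset.mem_filter, Finset.mem_univ, true_and] at hx ⊢
    obtain ⟨k, -, rfl⟩ := Finset.mem_image.mp hy
    refine ⟨hfS k x hx.1, fun e => hx.2 ((hinj.iterate k) ?_)⟩
    rwa [← Function.iterate_succ_apply, Function.iterate_succ_apply']
  -- the fixed points form a subgroup
  set F : Subgroup G := S ⊓ centralizer ({g} : Set G) with hF
  have hcard : A.card + Nat.card F = 8 := by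
    have h1 : (Finset.univ.filter fun w => w ∈ S).card = 8 := by
      rw [← Fintype.card_subtype, ← Nat.card_eq_fintype_card]; exact hS
    have h2 : (Finset.univ.filter fun w => w ∈ S ∧ ¬ f w ≠ w).card = Nat.card F := by
      rw [Nat.card_eq_fintype_card, Fintype.card_subtype]
      refine congrArg Finset.card (Finset.filter_congr fun w _ => and_congr_right fun _ => ?_)
      rw [not_not]
      exact ⟨fun e => mem_centralizer_singleton_iff.mpr (mul_inv_eq_iff_eq_mul.mp e).symm,
        fun e => mul_inv_eq_iff_eq_mul.mpr (mem_centralizer_singleton_iff.mp e).symm⟩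
    have h3 := Finset.card_filter_add_card_filter_not (s := Finset.univ.filter fun w => w ∈ S)
      (fun w => f w ≠ w)
    rw [Finset.filter_filter, Finset.filter_filter] at h3
    rw [← h2, ← h1, ← h3]
  obtain ⟨x, hx⟩ : A.Nonempty := by
    by_contra hA0
    rw [Finset.not_nonempty_iff_eq_empty] at hA0
    refine hne (mem_centralizer_iff.mpr fun w hw => ?_)
    by_contra e
    have : w ∈ A := by
      simp only [hA, Finset.mem_filter, Finset.mem_univ, true_and]
      exact ⟨hw, fun e' => e (mul_inv_eq_iff_eq_mul.mp e').symm⟩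
    rw [hA0] at this
    exact absurd this (Finset.notMem_empty w)
  have hx5 := hbig x hx
  have hxA := Finset.card_le_card (hsub x hx)
  have hF8 : Nat.card F ∣ 8 := hS ▸ card_dvd_of_le inf_le_left
  have hFp : 0 < Nat.card F := Nat.card_pos
  -- one orbit
  have hOA : O x = A := by
    refine Finset.Subset.antisymm (hsub x hx) fun z hz => ?_
    by_contra hzx
    have hz5 := hbig z hz
    have hdisj : Disjoint (O x) (O z) := by
      rw [Finset.disjoint_left]
      intro w hwx hwz
      obtain ⟨a, -, rfl⟩ := Finset.mem_image.mp hwx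
      obtain ⟨b, hb, e⟩ := Finset.mem_image.mp hwz
      refine hzx (Finset.mem_image.mpr ?_)
      have hbk := Finset.mem_range.mp hb
      have hz' : z = f^[Function.minimalPeriod f z - b + a] x := by
        rw [Function.iterate_add_apply, ← e, ← Function.iterate_add_apply, Nat.sub_add_cancel hbk.le,
          Function.iterate_minimalPeriod]
      refine ⟨(Function.minimalPeriod f z - b + a) % Function.minimalPeriod f x,
        Finset.mem_range.mpr (Nat.mod_lt _ ((hper x).minimalPeriod_pos (orderOf_pos g))), ?_⟩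
      rw [Function.iterate_mod_minimalPeriod_eq, ← hz']
    have h1 := Finset.card_le_card (Finset.union_subset (hsub x hx) (hsub z hz))
    rw [Finset.card_union_of_disjoint hdisj] at h1
    omega
  have hodd' : ¬ 2 ∣ (O x).card := fun e => hodd (e.trans (hOcard x ▸ (hper x).minimalPeriod_dvd))
  rw [hOA] at hx5 hodd'
  have hF1 : Nat.card F = 1 := by
    have : Nat.card F ∈ Nat.divisors 8 := Nat.mem_divisors.mpr ⟨hF8, by norm_num⟩
    rw [show Nat.divisors 8 = {1, 2, 4, 8} by decide] at this
    simp only [Finset.mem_insert, Finset.mem_singleton] at this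
    omega
  -- an involution
  haveI : Fact (Nat.Prime 2) := ⟨Nat.prime_two⟩
  obtain ⟨t, ht⟩ := exists_prime_orderOf_dvd_card' (G := ↥S) 2 (by rw [hS]; norm_num)
  have hmemA : ∀ s ∈ S, s ≠ 1 → s ∈ A := fun s hs hs1 => by
    simp only [hA, Finset.mem_filter, Finset.mem_univ, true_and]
    refine ⟨hs, fun e => hs1 ?_⟩
    have h1 : s ∈ F := ⟨hs, mem_centralizer_singleton_iff.mpr (mul_inv_eq_iff_eq_mul.mp e).symm⟩
    rwa [Subgroup.card_eq_one.mp hF1, mem_bot] at h1
  have hmul : ∀ k w, f^[k] w * f^[k] w = f^[k] (w * w) := fun k w => by simp only [hfk]; group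
  have htt : (t : G) * t = 1 := by
    have := pow_orderOf_eq_one t
    rw [ht, pow_two] at this
    exact congrArg Subtype.val this
  have ht1 : (t : G) ≠ 1 := fun e => by
    rw [← Subgroup.orderOf_coe, e, orderOf_one] at ht; omega
  have hxx : x * x = 1 := by
    have h1 : (t : G) ∈ O x := hOA.symm ▸ hmemA _ t.2 ht1
    obtain ⟨a, -, e⟩ := Finset.mem_image.mp h1
    rw [← e, hmul] at htt
    exact (hinj.iterate a) (htt.trans (by simp [hfk]))
  intro s hs
  by_cases hs1 : s = 1
  · rw [hs1, one_mul]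
  have h1 : s ∈ O x := hOA.symm ▸ hmemA s hs hs1
  obtain ⟨a, -, rfl⟩ := Finset.mem_image.mp h1
  rw [hmul, hxx]
  simp [hfk]

theorem hall_twentyfour (hm : 24 ∣ Nat.card G) (hc : Nat.Coprime 24 (Nat.card G / 24)) :
    ∃ K : Subgroup G, Nat.card K = 24 := by
  haveI : Fact (Nat.Prime 2) := ⟨Nat.prime_two⟩
  by_cases hG : Group.IsSolvable G
  · exact hall_of_solvable hG hm hc
  have h8 : 2 ^ 3 ∣ Nat.card G := (by norm_num : 2 ^ 3 ∣ 24).trans hm
  have h16 : ¬ 2 ^ 4 ∣ Nat.card G := not_prime_mul_dvd Nat.prime_two hm hc (by norm_num) (by norm_num)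
  have h9 : ¬ 3 ^ 2 ∣ Nat.card G := not_prime_mul_dvd Nat.prime_three hm hc (by norm_num) (by norm_num)
  obtain ⟨S⟩ := (inferInstance : Nonempty (Sylow 2 G))
  have hSc : Nat.card (S : Subgroup G) = 8 := by
    have h1 := S.pow_dvd_card_of_pow_dvd_card h8
    obtain ⟨k, hk⟩ := IsPGroup.iff_card.mp S.2
    have hk4 : k < 4 := by
      by_contra hlt
      push Not at hlt
      exact h16 ((pow_dvd_pow 2 hlt).trans (hk ▸ card_subgroup_dvd_card _))
    rw [hk] at h1 ⊢
    have := Nat.pow_dvd_pow_iff_le_right (show 1 < 2 by norm_num) |>.mp h1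
    rw [show k = 3 by omega]; norm_num
  by_cases h3S : 3 ∣ Nat.card (normalizer ((S : Subgroup G) : Set G))
  · exact hall_in _ (solvable_normalizer S) (Nat.Coprime.mul_dvd_of_dvd_of_dvd (m := 8) (n := 3) (by norm_num)
      (hSc.symm ▸ card_dvd_of_le le_normalizer) h3S) hc
  have hnc : ¬ ∀ Q : Subgroup G, Q ≤ (S : Subgroup G) → ∀ g ∈ normalizer (Q : Set G),
      Nat.Coprime (orderOf g) 2 → g ∈ centralizer (Q : Set G) := fun h => by
    obtain ⟨N, hN, hNc⟩ := (Cfsg.Agent.S0071.result S).mpr h
    exact hG (solvable_of_complement S hNc)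
  push Not at hnc
  obtain ⟨Q, hQS, g, hgQ, hgc, hgne⟩ := hnc
  have hgodd : ¬ 2 ∣ orderOf g := fun hd => by
    have := Nat.Coprime.eq_one_of_dvd (Nat.Coprime.symm hgc) hd
    omega
  have hQd : Nat.card Q ∈ Nat.divisors 8 := Nat.mem_divisors.mpr ⟨hSc ▸ card_dvd_of_le hQS, by norm_num⟩
  rw [show Nat.divisors 8 = {1, 2, 4, 8} by decide] at hQd
  simp only [Finset.mem_insert, Finset.mem_singleton] at hQd
  rcases hQd with e | e | e | e
  · refine absurd (mem_centralizer_iff.mpr fun v hv => ?_) hgne
    rw [Subgroup.card_eq_one.mp e, coe_bot, Set.mem_singleton_iff] at hv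
    rw [hv, one_mul, mul_one]
  · refine absurd (mem_centralizer_iff.mpr fun v hv => ?_) hgne
    by_cases hv1 : v = 1
    · rw [hv1, one_mul, mul_one]
    have h1 := (mem_normalizer_iff.mp hgQ v).mp hv
    have h2 : g * v * g⁻¹ = v := by
      by_contra hne
      have h3 : ({1, v, g * v * g⁻¹} : Set G) ⊆ Q := by
        rintro x (rfl | rfl | rfl)
        exacts [one_mem Q, hv, h1]
      have h4 := Set.ncard_le_ncard h3 (Set.toFinite _)
      rw [← Nat.card_coe_set_eq (s := (Q : Set G)), SetLike.coe_sort_coe, e,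
        Set.ncard_eq_three.mpr ⟨1, v, g * v * g⁻¹, Ne.symm hv1, fun e' => hv1 (conj_eq_one_iff.mp e'.symm),
          Ne.symm hne, rfl⟩] at h4
      omega
    exact (mul_inv_eq_iff_eq_mul.mp h2).symm
  · -- `S` normalizes `Q`, and `3` divides the order of its normalizer
    have h3 : 3 ∣ orderOf g := by
      by_contra h3
      exact hgne (cent_of_four e hgQ (j := orderOf g)
        (Nat.odd_iff.mpr (Nat.two_dvd_ne_zero.mp hgodd)) (by rw [pow_orderOf_eq_one]; exact one_mem _) h3)
    have hSN : (S : Subgroup G) ≤ normalizer (Q : Set G) := by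
      refine (normal_subgroupOf_iff_le_normalizer hQS).mp (normal_of_index_eq_two ?_)
      have h1 := CfsgLib.card_mul_relIndex hQS
      rw [e, hSc] at h1
      show Q.relIndex (S : Subgroup G) = 2
      omega
    set N := normalizer (Q : Set G) with hN
    have hsolv : Group.IsSolvable N := by
      haveI : (Q.subgroupOf N).Normal := normal_in_normalizer
      refine HallE8.isSolvable_of_ext (Q.subgroupOf N) ?_ (solvable_of_not_four fun hd => h16 ?_)
      · have hp : IsPGroup 2 (Q.subgroupOf N) := IsPGroup.of_card (n := 2) (by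
          rw [Nat.card_congr (subgroupOfEquivOfLe le_normalizer).toEquiv, e]; norm_num)
        haveI := hp.isNilpotent
        infer_instance
      · have h1 := Nat.mul_dvd_mul_left (Nat.card (Q.subgroupOf N)) hd
        rw [← Subgroup.index_eq_card, card_mul_index, Nat.card_congr (subgroupOfEquivOfLe le_normalizer).toEquiv,
          e] at h1
        exact (by norm_num : (2 : ℕ) ^ 4 = 4 * 2 ^ 2) ▸ h1.trans (card_subgroup_dvd_card N)
    exact hall_in N hsolv (Nat.Coprime.mul_dvd_of_dvd_of_dvd (m := 8) (n := 3) (by norm_num)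
      (hSc.symm ▸ card_dvd_of_le hSN) (h3.trans (Subgroup.orderOf_dvd_natCard N hgQ))) hc
  · have hQ : Q = (S : Subgroup G) := eq_of_le_of_card_ge hQS (by rw [e, hSc])
    subst hQ
    have hsq := sq_of_action hSc hgQ hgodd
      (fun hd => h3S (hd.trans (Subgroup.orderOf_dvd_natCard _ hgQ))) hgne
    exact absurd (HallE8.hard S ⟨hsq, hSc, h3S⟩ (by simpa using h9)) hG

end CfsgLib.HallNumbers
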