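import Cfsg.Agent.Lib.HallNumbers.Sufficient
import Cfsg.Agent.Lib.GW.Hyp
import Cfsg.Agent.Lib.SLCard
import Cfsg.Agent.S0483
import Cfsg.Agent.S0804

/-!
Groups in which `60` is the order of a Hall set have a subgroup of order `60`.
-/

set_option autoImplicit false
set_option linter.unusedSectionVars false
set_option linter.style.haveILetI false

namespace CfsgLib.HallNumbers

open Cfsg Subgroup DihedralGroup

universe u

variable {G : Type u} [Group G] [Finite G]

/-- A prime to the index divides the order of a normal subgroup's member: subgroups of coprime order lie in it. -/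
theorem le_of_coprime_index {L : Subgroup G} [L.Normal] {V : Subgroup G}
    (h : (Nat.card V).Coprime L.index) : V ≤ L := by
  intro v hv
  refine (QuotientGroup.eq_one_iff v).mp (orderOf_eq_one_iff.mp ?_)
  have h1 : orderOf (v : G ⧸ L) ∣ Nat.card V :=
    (orderOf_map_dvd (QuotientGroup.mk' L) v).trans (Subgroup.orderOf_dvd_natCard V hv)
  have h2 : orderOf (v : G ⧸ L) ∣ L.index := by
    rw [Subgroup.index_eq_card]; exact orderOf_dvd_natCard _
  exact Nat.eq_one_of_dvd_coprimes h h1 h2

theorem three_dvd_psl (q : ℕ) : 3 ∣ q * (q ^ 2 - 1) := by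
  rcases Nat.eq_zero_or_pos q with rfl | hq
  · simp
  have h : q % 3 = 0 ∨ q % 3 = 1 ∨ q % 3 = 2 := by omega
  have e : q ^ 2 - 1 = (q + 1) * (q - 1) := by rw [← Nat.sq_sub_sq, one_pow]
  rw [e]
  rcases h with h | h | h
  · exact dvd_mul_of_dvd_left (Nat.dvd_of_mod_eq_zero h) _
  · exact dvd_mul_of_dvd_right (dvd_mul_of_dvd_right (by omega) _) _
  · exact dvd_mul_of_dvd_right (dvd_mul_of_dvd_left (by omega) _) _

/-- Frattini: a prime power coprime to a normal subgroup divides the order of the normalizer. -/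
theorem dvd_normalizer_of_coprime {p : ℕ} [Fact p.Prime] {N : Subgroup G} [N.Normal] (P : Sylow p N) {k : ℕ}
    (hk : k ∣ Nat.card G) (hc : k.Coprime (Nat.card N)) :
    k ∣ Nat.card (normalizer ((P : Subgroup N).map N.subtype : Set G)) := by
  have h1 := CfsgLib.card_sup_dvd_mul (normalizer ((P : Subgroup N).map N.subtype : Set G)) N
  rw [P.normalizer_sup_eq_top, card_top, mul_comm] at h1
  exact hc.dvd_of_dvd_mul_left (hk.trans h1)

theorem hall_sixty (hm : 60 ∣ Nat.card G) (hc : Nat.Coprime 60 (Nat.card G / 60)) :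
    ∃ K : Subgroup G, Nat.card K = 60 := by
  haveI : Fact (Nat.Prime 2) := ⟨Nat.prime_two⟩
  haveI : Fact (Nat.Prime 5) := ⟨Nat.prime_five⟩
  by_cases hG : Group.IsSolvable G
  · exact hall_of_solvable hG hm hc
  have h4 : 2 ^ 2 ∣ Nat.card G := (by norm_num : 2 ^ 2 ∣ 60).trans hm
  have h8 : ¬ 2 ^ 3 ∣ Nat.card G := not_prime_mul_dvd Nat.prime_two hm hc (by norm_num) (by norm_num)
  have h9 : ¬ 3 ^ 2 ∣ Nat.card G := not_prime_mul_dvd Nat.prime_three hm hc (by norm_num) (by norm_num)
  have h25 : ¬ 5 ^ 2 ∣ Nat.card G := not_prime_mul_dvd Nat.prime_five hm hc (by norm_num) (by norm_num)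
  have h3 : 3 ∣ Nat.card G := (by norm_num : 3 ∣ 60).trans hm
  have h5 : 5 ∣ Nat.card G := (by norm_num : 5 ∣ 60).trans hm
  obtain ⟨V⟩ := (inferInstance : Nonempty (Sylow 2 G))
  have hV := sylow_card_four h4 h8 V
  by_cases h5N : 5 ∣ Nat.card (normalizer ((V : Subgroup G) : Set G))
  · refine hall_in _ (solvable_normalizer V) ?_ hc
    exact Nat.Coprime.mul_dvd_of_dvd_of_dvd (m := 12) (n := 5) (by norm_num)
      (Nat.Coprime.mul_dvd_of_dvd_of_dvd (m := 4) (n := 3) (by norm_num)
        (hV.symm ▸ card_dvd_of_le le_normalizer) (three_dvd_normalizer hG h4 h8 V)) h5N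
  obtain ⟨n, hperf⟩ := CfsgLib.GW.exists_perfect_derived G
  set L := derivedSeries G n with hL
  haveI := hperf
  haveI : L.Normal := derivedSeries_normal G n
  have hLns : ¬ Group.IsSolvable L := by
    intro hs
    rcases subsingleton_or_nontrivial L with h | h
    · exact hG ⟨⟨n, @Subgroup.eq_bot_of_subsingleton _ _ L h⟩⟩
    · exact (Group.IsSolvable.commutator_lt_top_of_nontrivial (G := L)).ne Group.IsPerfect.commutator_eq_top
  have hL4 : 2 ^ 2 ∣ Nat.card L := by
    by_contra h
    exact hLns (solvable_of_not_four h)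
  have hLi : ¬ 2 ∣ L.index := fun hd => h8 (by
    rw [← card_mul_index L, pow_succ]
    exact Nat.mul_dvd_mul hL4 hd)
  have hVL : (V : Subgroup G) ≤ L := le_of_coprime_index (by
    rw [hV, show (4 : ℕ) = 2 ^ 2 by norm_num]
    exact Nat.Coprime.pow_left 2 (Nat.prime_two.coprime_iff_not_dvd.mpr hLi))
  -- five divides the order of `L`
  have hL5 : 5 ∣ Nat.card L := by
    by_contra h
    refine h5N ?_
    have := dvd_normalizer_of_coprime (V.subtype hVL) h5 ((Nat.prime_five.coprime_iff_not_dvd).mpr h)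
    rwa [Sylow.coe_subtype, map_subgroupOf_eq_of_le hVL] at this
  have hVc : Nat.card ((V.subtype hVL : Sylow 2 L) : Subgroup L) = 4 := by
    rw [Sylow.coe_subtype, Nat.card_congr (subgroupOfEquivOfLe hVL).toEquiv, hV]
  haveI : Nontrivial ((V.subtype hVL : Sylow 2 L) : Subgroup L) := Finite.one_lt_card_iff_nontrivial.mp (by omega)
  haveI : IsKleinFour ((V.subtype hVL : Sylow 2 L) : Subgroup L) := by
    refine ⟨hVc, ?_⟩
    have hcyc : ¬ IsCyclic ((V.subtype hVL : Sylow 2 L) : Subgroup L) := fun h =>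
      hLns (solvable_of_cyclic (V.subtype hVL))
    rw [Monoid.exponent_eq_prime_iff]
    · intro g hg
      have h1 := orderOf_dvd_natCard g
      rw [hVc] at h1
      have h2 : orderOf g ∈ Nat.divisors 4 := Nat.mem_divisors.mpr ⟨h1, by norm_num⟩
      rw [show Nat.divisors 4 = {1, 2, 4} by decide] at h2
      simp only [Finset.mem_insert, Finset.mem_singleton] at h2
      rcases h2 with e | e | e
      · exact absurd (orderOf_eq_one_iff.mp e) hg
      · exact e
      · exact absurd (isCyclic_of_orderOf_eq_card g (by rw [e, hVc])) hcyc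
    · exact Nat.prime_two
  obtain ⟨eV⟩ := IsKleinFour.nonempty_mulEquiv (G₁ := ((V.subtype hVL : Sylow 2 L) : Subgroup L))
    (G₂ := DihedralGroup 2)
  set O := oddCore L with hO
  have hOodd : ¬ 2 ∣ Nat.card O := CfsgLib.not_dvd_card_pPrimeCore Nat.prime_two
  rcases Cfsg.Agent.S0483.result (V.subtype hVL) 2 le_rfl ⟨eV⟩ with
    ⟨F, _, _, hFodd, -, ⟨e⟩⟩ | ⟨⟨e⟩⟩
  swap
  · exfalso
    refine h8 ?_
    have h1 : Nat.card (L ⧸ O) = 2520 := by
      rw [Nat.card_congr e.toEquiv, nat_card_alternatingGroup, Nat.card_eq_fintype_card, Fintype.card_fin]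
      norm_num [Nat.factorial]
    exact ((by norm_num : 2 ^ 3 ∣ 2520).trans (h1 ▸ card_quotient_dvd_card O)).trans (card_subgroup_dvd_card L)
  set q := Fintype.card F with hq
  have hQ : 2 * Nat.card (L ⧸ O) = q * (q ^ 2 - 1) := by
    rw [Nat.card_congr e.toEquiv, ← CfsgLib.SLCard.card_SL_two, ← CfsgLib.SLCard.gcd_mul_card_PSL (n := 2) (by norm_num)]
    congr 1
    obtain ⟨j, hj⟩ := hFodd
    exact (Nat.gcd_eq_left (by omega)).symm
  have hLc : Nat.card L = Nat.card (L ⧸ O) * Nat.card O := card_eq_card_quotient_mul_card_subgroup O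
  have hO3 : ¬ 3 ∣ Nat.card O := fun hd => h9 (by
    have h1 : 3 ∣ Nat.card (L ⧸ O) := (Nat.Coprime.dvd_of_dvd_mul_left (by norm_num : Nat.Coprime 3 2)
      (hQ ▸ three_dvd_psl q))
    have h2 : 3 ^ 2 ∣ Nat.card L := by rw [hLc, pow_two]; exact Nat.mul_dvd_mul h1 hd
    exact h2.trans (card_subgroup_dvd_card L))
  have hL3 : 3 ∣ Nat.card L := hLc ▸ dvd_mul_of_dvd_left
    (Nat.Coprime.dvd_of_dvd_mul_left (by norm_num : Nat.Coprime 3 2) (hQ ▸ three_dvd_psl q)) _
  have hL12 : 12 ∣ Nat.card L :=
    Nat.Coprime.mul_dvd_of_dvd_of_dvd (m := 4) (n := 3) (by norm_num) hL4 hL3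
  have hc12 : Nat.Coprime 12 (Nat.card O) := Nat.Coprime.mul_left (k := Nat.card O) (m := 4) (n := 3)
    (Nat.Coprime.pow_left 2 (Nat.prime_two.coprime_iff_not_dvd.mpr hOodd))
    (Nat.prime_three.coprime_iff_not_dvd.mpr hO3)
  by_cases hO5 : 5 ∣ Nat.card O
  · obtain ⟨P⟩ := (inferInstance : Nonempty (Sylow 5 O))
    set P' := (P : Subgroup O).map O.subtype with hP'
    have hP'c : Nat.card P' = 5 := by
      have h1 : 5 ∣ Nat.card (P : Subgroup O) := P.dvd_card_of_dvd_card hO5
      obtain ⟨k, hk⟩ := IsPGroup.iff_card.mp P.2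
      have hk2 : k < 2 := by
        by_contra hlt
        push Not at hlt
        exact h25 (((pow_dvd_pow 5 hlt).trans (hk ▸ card_subgroup_dvd_card _)).trans
          ((card_subgroup_dvd_card O).trans (card_subgroup_dvd_card L)))
      rw [hP', card_map_of_injective O.subtype_injective, hk]
      rcases Nat.eq_zero_or_pos k with rfl | hk0
      · rw [hk] at h1; norm_num at h1
      · rw [show k = 1 by omega, pow_one]
    set NP := normalizer (P' : Set L) with hNP
    have h12N : 12 ∣ Nat.card NP := dvd_normalizer_of_coprime P hL12 hc12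
    have hdvd : Nat.card NP ∣ Nat.card G := (card_subgroup_dvd_card NP).trans (card_subgroup_dvd_card L)
    obtain ⟨K, hK⟩ := hall_twelve (G := NP) h12N (by
      refine Nat.Coprime.coprime_dvd_right (Nat.div_dvd_div h12N hdvd) ?_
      obtain ⟨r, hr⟩ := hm
      rw [hr, Nat.mul_div_cancel_left r (by norm_num)] at hc
      rw [hr, show 60 * r / 12 = 5 * r by omega]
      exact Nat.Coprime.mul_right (by norm_num) (hc.coprime_dvd_left (by norm_num)))
    set K' := K.map NP.subtype with hK'
    have hK'c : Nat.card K' = 12 := by rw [hK', card_map_of_injective NP.subtype_injective, hK]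
    have h1 := HallE8.card_sup_mul (A := P') (B := K') (map_subtype_le _)
    have h2 : P' ⊓ K' = ⊥ := Subgroup.inf_eq_bot_of_coprime (by rw [hP'c, hK'c]; norm_num)
    rw [h2, card_bot, mul_one, hP'c, hK'c] at h1
    exact ⟨(P' ⊔ K').map L.subtype, by rw [card_map_of_injective L.subtype_injective, h1]⟩
  · have h5Q : 5 ∣ q * (q ^ 2 - 1) := hQ ▸ dvd_mul_of_dvd_right
      ((Nat.prime_five.dvd_mul.mp (hLc ▸ hL5)).resolve_right hO5) 2
    obtain ⟨H, ⟨eH⟩⟩ := (Cfsg.Agent.S0804.result (F := F) rfl).mpr h5Q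
    set H' := H.map e.symm.toMonoidHom with hH'
    have hH'c : Nat.card H' = 60 := by
      rw [hH', card_map_of_injective (K := H) e.symm.injective, Nat.card_congr eH.toEquiv,
        nat_card_alternatingGroup, Nat.card_eq_fintype_card, Fintype.card_fin]
      norm_num [Nat.factorial]
    set W := H'.comap (QuotientGroup.mk' O) with hW
    have hOW : O ≤ W := fun o ho => by
      rw [hW, mem_comap, show QuotientGroup.mk' O o = 1 from (QuotientGroup.eq_one_iff o).mpr ho]
      exact one_mem _
    have hWc : Nat.card W = 60 * Nat.card O := by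
      have h1 := card_mul_index W
      rw [hW, index_comap_of_surjective _ (QuotientGroup.mk'_surjective O), hLc, ← card_mul_index H', hH'c] at h1
      have hi : 0 < H'.index := Nat.pos_of_ne_zero index_ne_zero_of_finite
      exact Nat.eq_of_mul_eq_mul_right hi (h1.trans (by ring))
    haveI : (O.subgroupOf W).Normal := Normal.subgroupOf inferInstance W
    have hOc : Nat.card (O.subgroupOf W) = Nat.card O := Nat.card_congr (subgroupOfEquivOfLe hOW).toEquiv
    have hi60 : (O.subgroupOf W).index = 60 := by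
      have h1 := card_mul_index (O.subgroupOf W)
      rw [hOc, hWc, mul_comm 60] at h1
      exact Nat.eq_of_mul_eq_mul_left Nat.card_pos h1
    obtain ⟨K, hK⟩ := Subgroup.exists_right_complement'_of_coprime (N := O.subgroupOf W) (by
      rw [hOc, hi60]
      exact (Nat.Coprime.mul_left (m := 12) (n := 5) hc12 (Nat.prime_five.coprime_iff_not_dvd.mpr hO5)).symm)
    exact ⟨(K.map W.subtype).map L.subtype, by
      rw [card_map_of_injective L.subtype_injective, card_map_of_injective W.subtype_injective,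
        ← hK.symm.index_eq_card, hi60]⟩

end CfsgLib.HallNumbers
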