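import Cfsg.Agent.Lib.HallNumbers.Torus
import Cfsg.Agent.Lib.HallNumbers.Sixty
import Cfsg.Agent.S0261

/-!
Orders of subgroups that `SL₂(r)` does not have, for suitable congruences on `r`.
-/

set_option autoImplicit false
set_option linter.unusedSectionVars false
set_option linter.style.haveILetI false

namespace CfsgLib.HallNumbers

open Subgroup

universe u

theorem small_divisor {d : ℕ} (h : d ∣ 96) (h2 : 2 ∣ d) (h8 : ¬ 8 ∣ d) (h3 : ¬ 3 ∣ d) : d = 2 ∨ d = 4 := by
  have h1 : d ∈ Nat.divisors 96 := Nat.mem_divisors.mpr ⟨h, by norm_num⟩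
  rw [show Nat.divisors 96 = {1, 2, 3, 4, 6, 8, 12, 16, 24, 32, 48, 96} by decide] at h1
  simp only [Finset.mem_insert, Finset.mem_singleton] at h1
  omega

section Abstract

variable {H : Type u} [Group H] [Finite H]

/-- An element normalizing a cyclic subgroup with order prime to the order of its automorphism group centralizes
it. -/
theorem cent_of_coprime_totient (Q : Subgroup H) [IsCyclic Q] {w : H} (hw : w ∈ normalizer (Q : Set H))
    (hc : (orderOf w).Coprime (Nat.totient (Nat.card Q))) : w ∈ centralizer (Q : Set H) := by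
  set φ := Subgroup.normalizerMonoidHom Q ⟨w, hw⟩ with hφ
  have h1 : orderOf φ ∣ orderOf w := by
    have := orderOf_map_dvd (Subgroup.normalizerMonoidHom Q) ⟨w, hw⟩
    rwa [orderOf_mk] at this
  have h2 : orderOf φ ∣ Nat.totient (Nat.card Q) := IsCyclic.card_mulAut Q ▸ orderOf_dvd_natCard φ
  have h3 : φ = 1 := orderOf_eq_one_iff.mp (Nat.eq_one_of_dvd_coprimes hc h1 h2)
  refine mem_centralizer_iff.mpr fun v hv => ?_
  have h4 : w * v * w⁻¹ = v := congrArg Subtype.val (DFunLike.congr_fun h3 ⟨v, hv⟩ :)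
  exact (mul_inv_eq_iff_eq_mul.mp h4).symm

/-- A Sylow subgroup of prime order whose normalizer has twice that order, in a group with a central involution,
has a normal complement. -/
theorem complement_of_small {p : ℕ} [Fact p.Prime] (hp2 : p ≠ 2) (P : Sylow p H)
    (hPc : Nat.card (P : Subgroup H) = p) (hN : Nat.card (normalizer ((P : Subgroup H) : Set H)) = 2 * p)
    {z : H} (hz : orderOf z = 2) (hzc : ∀ s, s * z = z * s) :
    ∃ K : Subgroup H, K.Normal ∧ Nat.card K * p = Nat.card H := by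
  haveI : IsCyclic (P : Subgroup H) := isCyclic_of_prime_card hPc
  set C := normalizer ((P : Subgroup H) : Set H) ⊓ centralizer ((P : Subgroup H) : Set H)
  have hPC : (P : Subgroup H) ≤ C := le_inf le_normalizer fun a ha => mem_centralizer_iff.mpr fun b hb =>
    congrArg Subtype.val ((IsCyclic.commGroup (α := (P : Subgroup H))).mul_comm ⟨b, hb⟩ ⟨a, ha⟩)
  have hzC : z ∈ C := by
    have h : z ∈ centralizer ((P : Subgroup H) : Set H) := mem_centralizer_iff.mpr fun s _ => hzc s
    exact ⟨centralizer_le_normalizer _ h, h⟩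
  have h2p : 2 * p ∣ Nat.card C := Nat.Coprime.mul_dvd_of_dvd_of_dvd
    ((Nat.coprime_primes Nat.prime_two Fact.out).mpr (Ne.symm hp2))
    (hz ▸ Subgroup.orderOf_dvd_natCard C hzC) (hPc ▸ card_dvd_of_le hPC)
  have hCN : C = normalizer ((P : Subgroup H) : Set H) :=
    eq_of_le_of_card_ge inf_le_left (by rw [hN]; exact Nat.le_of_dvd Nat.card_pos h2p)
  have hle : normalizer ((P : Subgroup H) : Set H) ≤ centralizer ((P : Subgroup H) : Set H) :=
    hCN ▸ inf_le_right
  have hK := MonoidHom.ker_transferSylow_isComplement' P hle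
  refine ⟨(MonoidHom.transferSylow P hle).ker, inferInstance, ?_⟩
  have := hK.card_mul_card
  rwa [hPc] at this

theorem no_order_264 (P : Sylow 11 H) [Fact (Nat.Prime 11)] (hH : Nat.card H = 264)
    (hN : Nat.card (normalizer ((P : Subgroup H) : Set H)) = 22)
    {z : H} (hz : orderOf z = 2) (hzc : ∀ s, s * z = z * s) : False := by
  haveI : Fact (Nat.Prime 3) := ⟨Nat.prime_three⟩
  have hv : (Nat.card H).factorization 11 = 1 := by
    rw [hH, show (264 : ℕ) = 11 ^ 1 * 24 by norm_num, Nat.factorization_mul (by norm_num) (by norm_num),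
      Finsupp.add_apply, Nat.Prime.factorization_pow Fact.out, Finsupp.single_eq_same,
      Nat.factorization_eq_zero_of_not_dvd (by norm_num : ¬ 11 ∣ 24)]
  have hPc : Nat.card (P : Subgroup H) = 11 := by rw [P.card_eq_multiplicity, hv, pow_one]
  obtain ⟨K, hKn, hK⟩ := complement_of_small (by norm_num) P hPc (by rw [hN]) hz hzc
  have hKc : Nat.card K = 24 := by omega
  obtain ⟨Q⟩ := (inferInstance : Nonempty (Sylow 3 K))
  have hQc : Nat.card (Q : Subgroup K) = 3 := by
    rw [Q.card_eq_multiplicity, hKc, show (24 : ℕ) = 3 ^ 1 * 8 by norm_num,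
      Nat.factorization_mul (by norm_num) (by norm_num), Finsupp.add_apply, Nat.Prime.factorization_pow Fact.out,
      Finsupp.single_eq_same, Nat.factorization_eq_zero_of_not_dvd (by norm_num : ¬ 3 ∣ 8)]
    norm_num
  have h11 := dvd_normalizer_of_coprime Q (k := 11) (by rw [hH]; norm_num) (by rw [hKc]; norm_num)
  set Q' := (Q : Subgroup K).map K.subtype
  have hQ'c : Nat.card Q' = 3 := by rw [card_map_of_injective K.subtype_injective, hQc]
  obtain ⟨y, hy⟩ := exists_prime_orderOf_dvd_card' 11 h11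
  rw [← Subgroup.orderOf_coe] at hy
  haveI : IsCyclic Q' := isCyclic_of_prime_card hQ'c
  have hyC : (y : H) ∈ centralizer (Q' : Set H) :=
    cent_of_coprime_totient Q' y.2 (by rw [hy, hQ'c]; decide)
  let P' : Sylow 11 H := Sylow.ofCard (zpowers (y : H)) (by rw [Nat.card_zpowers, hy, hv, pow_one])
  have hQN : Q' ≤ normalizer ((P' : Subgroup H) : Set H) := fun q hq => centralizer_le_normalizer _
    (mem_centralizer_iff.mpr fun w hw => by
      obtain ⟨i, rfl⟩ := mem_zpowers_iff.mp (show w ∈ zpowers (y : H) from hw)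
      exact ((show Commute (y : H) q from (mem_centralizer_iff.mp hyC q hq).symm).zpow_left i).eq)
  have h1 : Nat.card (normalizer ((P' : Subgroup H) : Set H)) * Nat.card (Sylow 11 H) = Nat.card H := by
    rw [Sylow.card_eq_index_normalizer P']; exact card_mul_index _
  have h2 : Nat.card (normalizer ((P : Subgroup H) : Set H)) * Nat.card (Sylow 11 H) = Nat.card H := by
    rw [Sylow.card_eq_index_normalizer P]; exact card_mul_index _
  have h3 := card_dvd_of_le hQN
  rw [hQ'c, Nat.eq_of_mul_eq_mul_right Nat.card_pos (h1.trans h2.symm), hN] at h3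
  norm_num at h3

theorem no_order_96 (P : Sylow 3 H) [Fact (Nat.Prime 3)] (hH : Nat.card H = 96)
    (hN : Nat.card (normalizer ((P : Subgroup H) : Set H)) = 6)
    {z : H} (hz : orderOf z = 2) (hzc : ∀ s, s * z = z * s)
    (hquat : ∀ K : Subgroup H, Nat.card K = 32 → Nonempty (K ≃* QuaternionGroup 8)) : False := by
  have hv : (Nat.card H).factorization 3 = 1 := by
    rw [hH, show (96 : ℕ) = 3 ^ 1 * 32 by norm_num, Nat.factorization_mul (by norm_num) (by norm_num),
      Finsupp.add_apply, Nat.Prime.factorization_pow Fact.out, Finsupp.single_eq_same,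
      Nat.factorization_eq_zero_of_not_dvd (by norm_num : ¬ 3 ∣ 32)]
  have hPc : Nat.card (P : Subgroup H) = 3 := by rw [P.card_eq_multiplicity, hv, pow_one]
  obtain ⟨K, hKn, hK⟩ := complement_of_small (by norm_num) P hPc (by rw [hN]) hz hzc
  obtain ⟨e⟩ := hquat K (by omega)
  set c : K := e.symm (QuaternionGroup.a 1) with hc
  have hco : orderOf c = 16 := by
    rw [hc, e.symm.orderOf_eq, QuaternionGroup.orderOf_a_one]
  haveI : IsCyclic (P : Subgroup H) := isCyclic_of_prime_card hPc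
  obtain ⟨⟨y, hy⟩, hygen⟩ := IsCyclic.exists_generator (α := (P : Subgroup H))
  have hy3 : orderOf y = 3 := by
    rw [← hPc, ← orderOf_eq_card_of_forall_mem_zpowers hygen]
    exact (orderOf_mk y hy).symm
  set C := zpowers (c : H) with hC
  have hyN : y ∈ normalizer (C : Set H) := by
    have hd : (⟨y * c * y⁻¹, hKn.conj_mem _ c.2 y⟩ : K) ∈ zpowers c := by
      set d : K := ⟨y * c * y⁻¹, hKn.conj_mem _ c.2 y⟩
      have hdo : orderOf d = 16 := by
        rw [← hco, ← Subgroup.orderOf_coe, ← Subgroup.orderOf_coe c]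
        exact orderOf_injective (MulAut.conj y).toMonoidHom (MulEquiv.injective (MulAut.conj y)) (c : H)
      rw [← e.orderOf_eq] at hdo
      rcases hed : e d with i | i
      · refine mem_zpowers_iff.mpr ⟨(i.val : ℤ), e.injective ?_⟩
        rw [map_zpow, hc, e.apply_symm_apply, zpow_natCast, QuaternionGroup.a_one_pow, hed,
          ZMod.natCast_zmod_val]
      · rw [hed, QuaternionGroup.orderOf_xa] at hdo
        norm_num at hdo
    obtain ⟨i, hi⟩ := mem_zpowers_iff.mp hd
    have hi' : (c : H) ^ i = y * c * y⁻¹ := by simpa using congrArg Subtype.val hi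
    refine CfsgLib.Comp.mem_normalizer_of_maps fun w hw => ?_
    obtain ⟨j, rfl⟩ := mem_zpowers_iff.mp hw
    refine mem_zpowers_iff.mpr ⟨i * j, ?_⟩
    rw [zpow_mul, hi', conj_zpow]
  haveI : IsCyclic C := inferInstance
  have hyC := cent_of_coprime_totient C hyN (by
    rw [hy3, hC, Nat.card_zpowers, Subgroup.orderOf_coe, hco]; decide)
  have hcN : (c : H) ∈ normalizer ((P : Subgroup H) : Set H) := centralizer_le_normalizer _
    (mem_centralizer_iff.mpr fun w hw => by
      obtain ⟨i, hi⟩ := mem_zpowers_iff.mp (hygen ⟨w, hw⟩)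
      have hi' : y ^ i = w := by simpa using congrArg Subtype.val hi
      rw [← hi']
      exact ((show Commute y (c : H) from (mem_centralizer_iff.mp hyC c (mem_zpowers _)).symm).zpow_left i).eq)
  have h3 := Subgroup.orderOf_dvd_natCard _ hcN
  rw [Subgroup.orderOf_coe, hco, hN] at h3
  norm_num at h3

end Abstract

variable {r : ℕ} [hr : Fact r.Prime]

local notation "SL" => Matrix.SpecialLinearGroup (Fin 2) (ZMod r)

theorem odd_card (h2 : r ≠ 2) : Odd (Fintype.card (ZMod r)) := by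
  rw [ZMod.card]; exact hr.out.odd_of_ne_two h2

theorem card_SL : Nat.card SL = r * (r ^ 2 - 1) := by rw [SLCard.card_SL_two, ZMod.card]

theorem exists_invol (h2 : r ≠ 2) {H : Subgroup SL} (hneg : (-1 : SL) ∈ H) :
    ∃ z : H, orderOf z = 2 ∧ ∀ s : H, s * z = z * s := by
  have h20 := SL2Orders.two_ne_zero_of_odd (odd_card h2)
  refine ⟨⟨-1, hneg⟩, orderOf_eq_prime (Subtype.ext (by simp)) fun e => h20 ?_,
    fun s => Subtype.ext (neg_one_central (s : SL))⟩
  have := congrArg (fun g : H => (g : SL).1 0 0) e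
  simp at this
  linear_combination -this

/-- The shape of the normalizer of a Sylow subgroup at a prime dividing `r - 1` exactly as in `h`. -/
theorem shape (h2 : r ≠ 2) {p : ℕ} [hp : Fact p.Prime] (hp2 : p ≠ 2) (hdvd : p ∣ r - 1) {e k : ℕ} (he : e ≠ 0)
    (H : Subgroup SL) (hneg : (-1 : SL) ∈ H) (hH : Nat.card H = p ^ e * k) :
    ∃ (P : Sylow p H) (d n : ℕ), Nat.card (normalizer ((P : Subgroup H) : Set H)) = p ^ e * d ∧
      d * n = k ∧ p ^ e * d ∣ 2 * (r - 1) ∧ 2 ∣ d ∧ n ≡ 1 [MOD p ^ e] := by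
  obtain ⟨P, d, n, h1, hmul, h3, ⟨d', rfl⟩, h5, h6⟩ := sylow_shape (odd_card h2) hp2 (by rwa [ZMod.card]) H
    (hH ▸ (dvd_pow_self p he).trans (dvd_mul_right _ _)) hneg (e := e) (hH ▸ dvd_mul_right _ _)
  rw [ZMod.card] at h3
  refine ⟨P, d', n, h1, ?_, h3, ?_, h6⟩
  · rw [hH, mul_assoc] at hmul
    exact Nat.eq_of_mul_eq_mul_left (pow_pos hp.out.pos e) hmul
  · exact (Nat.Coprime.pow_right e ((Nat.coprime_primes Nat.prime_two hp.out).mpr (Ne.symm hp2))).dvd_of_dvd_mul_left
      h5

theorem not_eight (h4 : ¬ 4 ∣ r - 1) {x d : ℕ} (h : x * d ∣ 2 * (r - 1)) : ¬ 8 ∣ d := fun hd => h4 (by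
  have h1 : 2 * 4 ∣ 2 * (r - 1) := (hd.trans (dvd_mul_left d x)).trans h
  exact Nat.dvd_of_mul_dvd_mul_left two_pos h1)

theorem not_three (h3 : ¬ 3 ∣ r - 1) {x d : ℕ} (h : x * d ∣ 2 * (r - 1)) : ¬ 3 ∣ d := fun hd => h3
  (Nat.Coprime.dvd_of_dvd_mul_left (by norm_num) ((hd.trans (dvd_mul_left d x)).trans h))

theorem no_eight_p (h2 : r ≠ 2) {p t : ℕ} [hp : Fact p.Prime] (hp5 : 5 ≤ p) (hdvd : p ∣ r - 1)
    (ht : t = 1 ∨ (t = 3 ∧ 7 ≤ p)) (h4 : ¬ 4 ∣ r - 1) (h3 : ¬ 3 ∣ r - 1)
    (H : Subgroup SL) (hneg : (-1 : SL) ∈ H) : Nat.card H ≠ p * (8 * t) := by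
  intro hH
  obtain ⟨P, d, n, hN, hmul, hdiv, heven, hmod⟩ := shape h2 (e := 1) (k := 8 * t) (by omega) hdvd one_ne_zero H
    hneg (by rw [pow_one, hH])
  rw [pow_one] at hmod hN
  have hd : d = 2 ∨ d = 4 := small_divisor ((Dvd.intro n hmul).trans (by
    rcases ht with rfl | ⟨rfl, -⟩ <;> norm_num)) heven (not_eight h4 hdiv) (not_three h3 hdiv)
  have hn : 1 ≤ n := by
    rcases Nat.eq_zero_or_pos n with rfl | h
    · rw [mul_zero] at hmul; omega
    · exact h
  have hp' := (Nat.modEq_iff_dvd' hn).mp hmod.symm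
  rcases hd with rfl | rfl <;> rcases ht with rfl | ⟨rfl, hp7⟩
  · have := Nat.le_of_dvd (by omega) hp'
    omega
  · have hn12 : n = 12 := by omega
    subst hn12
    obtain rfl : p = 11 := (Nat.prime_dvd_prime_iff_eq hp.out (by norm_num)).mp hp'
    obtain ⟨z, hz, hzc⟩ := exists_invol h2 hneg
    exact no_order_264 P (by rw [hH]) (by rw [hN]) hz hzc
  · have := Nat.le_of_dvd (by omega) hp'
    omega
  · have := Nat.le_of_dvd (by omega) hp'
    omega

theorem no_72 (h2 : r ≠ 2) (hdvd : 3 ∣ r - 1) (h4 : ¬ 4 ∣ r - 1) (H : Subgroup SL) (hneg : (-1 : SL) ∈ H) :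
    Nat.card H ≠ 72 := by
  intro hH
  haveI : Fact (Nat.Prime 3) := ⟨Nat.prime_three⟩
  obtain ⟨P, d, n, -, hmul, hdiv, heven, hmod⟩ := shape h2 (p := 3) (e := 2) (k := 8) (by norm_num) hdvd
    (by norm_num) H hneg (by rw [hH]; norm_num)
  have h8 : d ∣ 8 := Dvd.intro n hmul
  have hd : d = 2 ∨ d = 4 := small_divisor (h8.trans (by norm_num)) heven (not_eight h4 hdiv)
    fun e => by have := e.trans h8; norm_num at this
  rcases hd with rfl | rfl
  · obtain rfl : n = 4 := by omega
    exact absurd hmod (by decide)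
  · obtain rfl : n = 2 := by omega
    exact absurd hmod (by decide)

theorem no_240 (h2 : r ≠ 2) (hdvd : 5 ∣ r - 1) (h4 : ¬ 4 ∣ r - 1) (h3 : ¬ 3 ∣ r - 1) (H : Subgroup SL)
    (hneg : (-1 : SL) ∈ H) : Nat.card H ≠ 240 := by
  intro hH
  haveI : Fact (Nat.Prime 5) := ⟨Nat.prime_five⟩
  obtain ⟨P, d, n, -, hmul, hdiv, heven, hmod⟩ := shape h2 (p := 5) (e := 1) (k := 48) (by norm_num) hdvd
    one_ne_zero H hneg (by rw [hH]; norm_num)
  rcases small_divisor ((Dvd.intro n hmul).trans (by norm_num)) heven (not_eight h4 hdiv) (not_three h3 hdiv) with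
    rfl | rfl
  · obtain rfl : n = 24 := by omega
    exact absurd hmod (by decide)
  · obtain rfl : n = 12 := by omega
    exact absurd hmod (by decide)

theorem no_600 (h2 : r ≠ 2) (hdvd : 5 ∣ r - 1) (h4 : ¬ 4 ∣ r - 1) (h3 : ¬ 3 ∣ r - 1) (H : Subgroup SL)
    (hneg : (-1 : SL) ∈ H) : Nat.card H ≠ 600 := by
  intro hH
  haveI : Fact (Nat.Prime 5) := ⟨Nat.prime_five⟩
  obtain ⟨P, d, n, -, hmul, hdiv, heven, hmod⟩ := shape h2 (p := 5) (e := 2) (k := 24) (by norm_num) hdvd
    (by norm_num) H hneg (by rw [hH]; norm_num)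
  rcases small_divisor ((Dvd.intro n hmul).trans (by norm_num)) heven (not_eight h4 hdiv) (not_three h3 hdiv) with
    rfl | rfl
  · obtain rfl : n = 12 := by omega
    exact absurd hmod (by decide)
  · obtain rfl : n = 6 := by omega
    exact absurd hmod (by decide)

theorem no_96 (h2 : r ≠ 2) (hdvd : 3 ∣ r - 1) (h4 : ¬ 4 ∣ r - 1) (h64 : ¬ 2 ^ 6 ∣ Nat.card SL) (H : Subgroup SL)
    (hneg : (-1 : SL) ∈ H) : Nat.card H ≠ 96 := by
  intro hH
  haveI : Fact (Nat.Prime 3) := ⟨Nat.prime_three⟩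
  haveI : Fact (Nat.Prime 2) := ⟨Nat.prime_two⟩
  obtain ⟨P, d, n, hN, hmul, hdiv, heven, hmod⟩ := shape h2 (p := 3) (e := 1) (k := 32) (by norm_num) hdvd
    one_ne_zero H hneg (by rw [hH]; norm_num)
  have h32 : d ∣ 32 := Dvd.intro n hmul
  rcases small_divisor (h32.trans (by norm_num)) heven (not_eight h4 hdiv)
    (fun e => by have := e.trans h32; norm_num at this) with rfl | rfl
  · obtain ⟨z, hz, hzc⟩ := exists_invol h2 hneg
    refine no_order_96 P hH (by rw [hN]; norm_num) hz hzc fun K hK => ?_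
    obtain ⟨S, hKS⟩ := (IsPGroup.of_card (n := 5) (G := ↥(K.map H.subtype)) (p := 2) (by
      rw [card_map_of_injective H.subtype_injective, hK]; norm_num)).exists_le_sylow
    have hS : (S : Subgroup SL) = K.map H.subtype := by
      refine (eq_of_le_of_card_ge hKS ?_).symm
      rw [card_map_of_injective H.subtype_injective, hK]
      obtain ⟨j, hj⟩ := IsPGroup.iff_card.mp S.2
      rw [hj]
      have hj6 : j < 6 := by
        by_contra hc
        push Not at hc
        exact h64 ((pow_dvd_pow 2 hc).trans (hj ▸ card_subgroup_dvd_card _))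
      exact (Nat.pow_le_pow_right two_pos (show j ≤ 5 by omega)).trans (by norm_num)
    obtain ⟨k, -, ⟨e⟩⟩ := Cfsg.Agent.S0261.result (odd_card h2) S
    have hk : 2 ^ k = 8 := by
      have h5 := Nat.card_congr e.toEquiv
      rw [hS, card_map_of_injective H.subtype_injective, hK, Nat.card_eq_fintype_card,
        QuaternionGroup.card] at h5
      omega
    rw [hk] at e
    exact ⟨((K.equivMapOfInjective H.subtype H.subtype_injective).trans (MulEquiv.subgroupCongr hS.symm)).trans e⟩
  · obtain rfl : n = 8 := by omega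
    exact absurd hmod (by decide)

/-- `SL₂(r)` has no subgroup of order `pq` if `p < q`, `p ∤ r - 1` and `q ∣ r - 1`. -/
theorem no_pq (h2 : r ≠ 2) {p q : ℕ} (hp : p.Prime) [hq : Fact q.Prime] (hp2 : p ≠ 2) (hpq : p < q)
    (hdvd : q ∣ r - 1) (hpr : ¬ p ∣ r - 1) (H : Subgroup SL) : Nat.card H ≠ p * q := by
  intro hH
  obtain ⟨P⟩ := (inferInstance : Nonempty (Sylow q H))
  have hqH : q ∣ Nat.card H := hH ▸ dvd_mul_left q p
  obtain ⟨h1, h2'⟩ := normalizer_bound (odd_card h2) (by have := hp.two_le; omega) (by rwa [ZMod.card]) H hqH P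
  rw [ZMod.card] at h1
  have hmul : Nat.card (normalizer ((P : Subgroup H) : Set H)) * Nat.card (Sylow q H) = p * q := by
    rw [Sylow.card_eq_index_normalizer P]
    exact (card_mul_index _).trans hH
  have hqP : q ∣ Nat.card (P : Subgroup H) := P.dvd_card_of_dvd_card hqH
  obtain ⟨d, hd⟩ := hqP.trans (card_dvd_of_le (le_normalizer (H := (P : Subgroup H))))
  rw [hd] at hmul h1
  have hmul' : d * Nat.card (Sylow q H) = p :=
    Nat.eq_of_mul_eq_mul_left hq.out.pos (by rw [← mul_assoc, hmul, mul_comm])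
  rcases (Nat.dvd_prime hp).mp (Dvd.intro _ hmul') with rfl | rfl
  · rw [one_mul] at hmul'
    have h3 := (Nat.modEq_iff_dvd' Nat.card_pos).mp (h2'.of_dvd hqP).symm
    rw [hmul'] at h3
    have := Nat.le_of_dvd (by have := hp.two_le; omega) h3
    omega
  · exact hpr (Nat.Coprime.dvd_of_dvd_mul_left ((Nat.coprime_primes hp Nat.prime_two).mpr hp2)
      ((dvd_mul_left _ _).trans h1))

end CfsgLib.HallNumbers
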