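import Cfsg.Agent.Lib.HallNumbers.Configurations
import Mathlib.NumberTheory.LSeries.PrimesInAP

/-!
Counterexamples: every number that is not a prime power, not `2` modulo `4` and not `12`, `24` or `60` is the order
of a Hall set of some finite group without a Hall subgroup of this order.
-/

set_option autoImplicit false
set_option linter.unusedSectionVars false
set_option linter.style.haveILetI false

namespace CfsgLib.HallNumbers

open Subgroup

/-- Every finite group in which `m` is the order of a Hall set has a subgroup of order `m`. -/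
def HallProp (m : ℕ) : Prop :=
  ∀ (G : Type) [Group G] [Finite G], m ∣ Nat.card G → m.Coprime (Nat.card G / m) →
    ∃ H : Subgroup G, Nat.card H = m

theorem not_hall {m : ℕ} (hm : 0 < m) {L : Type} [Group L] [Finite L] {g : ℕ} (hgm : g ∣ m)
    (hgL : g ∣ Nat.card L) (hc : (Nat.card L / g).Coprime m) (hno : ∀ K : Subgroup L, Nat.card K ≠ g) :
    ¬ HallProp m := by
  intro h
  have hg : 0 < g := Nat.pos_of_dvd_of_pos hgm hm
  have hmg : 0 < m / g := Nat.div_pos (Nat.le_of_dvd hm hgm) hg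
  haveI : NeZero (m / g) := ⟨hmg.ne'⟩
  have hcard : Nat.card (L × Multiplicative (ZMod (m / g))) = Nat.card L / g * m := by
    rw [Nat.card_prod, Nat.card_congr (Multiplicative.toAdd : Multiplicative (ZMod (m / g)) ≃ _), Nat.card_zmod]
    conv_lhs => rw [← Nat.div_mul_cancel hgL]
    rw [mul_assoc, Nat.mul_div_cancel' hgm]
  obtain ⟨H, hH⟩ := h (L × Multiplicative (ZMod (m / g))) (hcard ▸ dvd_mul_left _ _) (by
    rw [hcard, Nat.mul_div_cancel _ hm]; exact hc.symm)
  set f := (MonoidHom.fst L (Multiplicative (ZMod (m / g)))).comp H.subtype with hf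
  have h1 : Nat.card f.ker * Nat.card f.range = m := by
    rw [← Subgroup.index_ker f, card_mul_index, hH]
  have h2 : Nat.card f.ker ∣ m / g := by
    have hinj : Function.Injective
        (((MonoidHom.snd L (Multiplicative (ZMod (m / g)))).comp H.subtype).comp f.ker.subtype) := by
      intro a b e
      refine Subtype.ext (Subtype.ext (Prod.ext ?_ e))
      exact (MonoidHom.mem_ker.mp a.2).trans (MonoidHom.mem_ker.mp b.2).symm
    have := Subgroup.card_dvd_of_injective _ hinj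
    rwa [Nat.card_congr (Multiplicative.toAdd : Multiplicative (ZMod (m / g)) ≃ _), Nat.card_zmod] at this
  have h3 : Nat.card f.range ∣ g := by
    have a1 : Nat.card f.range ∣ g * (Nat.card L / g) :=
      (Nat.mul_div_cancel' hgL).symm ▸ card_subgroup_dvd_card f.range
    exact (Nat.Coprime.coprime_dvd_left (Dvd.intro_left _ h1) hc.symm).dvd_of_dvd_mul_right a1
  refine hno f.range (Nat.le_antisymm (Nat.le_of_dvd hg h3) ?_)
  have h4 : Nat.card f.ker * Nat.card f.range ≤ m / g * Nat.card f.range :=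
    Nat.mul_le_mul_right _ (Nat.le_of_dvd hmg h2)
  rw [h1] at h4
  exact Nat.le_of_mul_le_mul_left (by rwa [Nat.div_mul_cancel hgm]) hmg

theorem modEq_order {r a k : ℕ} (hr : 1 ≤ r) (ha : 1 ≤ a) (h : r ≡ a [MOD k]) :
    k ∣ r * (r ^ 2 - 1) ↔ k ∣ a * (a ^ 2 - 1) := by
  have h1 : r ^ 2 - 1 ≡ a ^ 2 - 1 [MOD k] := by
    refine Nat.ModEq.add_right_cancel' 1 ?_
    rw [Nat.sub_add_cancel (Nat.one_le_pow _ _ hr), Nat.sub_add_cancel (Nat.one_le_pow _ _ ha)]
    exact h.pow 2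
  exact (h.mul h1).dvd_iff dvd_rfl

theorem modEq_pred {r a k : ℕ} (hr : 1 ≤ r) (ha : 1 ≤ a) (h : r ≡ a [MOD k]) : k ∣ r - 1 ↔ k ∣ a - 1 := by
  have h1 : r - 1 ≡ a - 1 [MOD k] := by
    refine Nat.ModEq.add_right_cancel' 1 ?_
    rwa [Nat.sub_add_cancel hr, Nat.sub_add_cancel ha]
  exact h1.dvd_iff dvd_rfl

theorem not_dvd_order_two {r s : ℕ} (hr : 1 ≤ r) (hs : s.Prime) (hs5 : 5 ≤ s) (h : r ≡ 2 [MOD s]) :
    ¬ s ∣ r * (r ^ 2 - 1) := by
  rw [modEq_order hr (by norm_num) h]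
  intro hd
  have := Nat.le_of_dvd (by norm_num) hd
  norm_num at this hd
  interval_cases s <;> revert hd hs <;> norm_num

/-- Dirichlet: a prime in a class modulo `A` avoiding the primes in `S`. -/
theorem exists_r {A a : ℕ} (hA : 0 < A) (ha : a.Coprime A) (S : Finset ℕ)
    (hS : ∀ s ∈ S, s.Prime ∧ ¬ s ∣ A ∧ 5 ≤ s) :
    ∃ r, r.Prime ∧ 2 < r ∧ r ≡ a [MOD A] ∧ ∀ s ∈ S, ¬ s ∣ r * (r ^ 2 - 1) := by
  set R := ∏ s ∈ S, s with hR
  have hAR : Nat.Coprime A R := Nat.Coprime.prod_right fun s hs =>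
    ((hS s hs).1.coprime_iff_not_dvd.mpr (hS s hs).2.1).symm
  have h2R : Nat.Coprime 2 R := Nat.Coprime.prod_right fun s hs =>
    (Nat.coprime_primes Nat.prime_two (hS s hs).1).mpr (by have := (hS s hs).2.2; omega)
  have hR0 : R ≠ 0 := Finset.prod_ne_zero_iff.mpr fun s hs => (hS s hs).1.ne_zero
  obtain ⟨c, hc1, hc2⟩ := Nat.chineseRemainder hAR a 2
  have hcop : c.Coprime (A * R) := Nat.Coprime.mul_right (by
    rw [Nat.Coprime, hc1.gcd_eq]; exact ha) (by rw [Nat.Coprime, hc2.gcd_eq]; exact h2R)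
  obtain ⟨r, hr2, hr, hrc⟩ := Nat.forall_exists_prime_gt_and_modEq 2 (mul_ne_zero hA.ne' hR0) hcop
  refine ⟨r, hr, hr2, (hrc.of_dvd (dvd_mul_right A R)).trans hc1, fun s hs => ?_⟩
  exact not_dvd_order_two hr.one_lt.le (hS s hs).1 (hS s hs).2.2
    (((hrc.of_dvd (dvd_mul_left R A)).trans hc2).of_dvd (Finset.dvd_prod_of_mem _ hs))

theorem psl_counter {m g r : ℕ} [Fact r.Prime] (hm : 0 < m) (h2 : r ≠ 2) (hgm : g ∣ m)
    (hgN : 2 * g ∣ r * (r ^ 2 - 1)) (hs : ∀ s, s.Prime → s ∣ m → ¬ 2 * (s * g) ∣ r * (r ^ 2 - 1))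
    (hno : ∀ H : Subgroup (Matrix.SpecialLinearGroup (Fin 2) (ZMod r)),
      (-1 : Matrix.SpecialLinearGroup (Fin 2) (ZMod r)) ∈ H → Nat.card H ≠ 2 * g) : ¬ HallProp m := by
  set SL := Matrix.SpecialLinearGroup (Fin 2) (ZMod r)
  have hz : Nat.card (center SL) = 2 := by
    rw [SLCard.card_SL_center (by norm_num), ZMod.card]
    obtain ⟨j, hj⟩ := (Fact.out : r.Prime).odd_of_ne_two h2
    exact Nat.gcd_eq_left (by omega)
  have hL : 2 * Nat.card (SL ⧸ center SL) = r * (r ^ 2 - 1) := by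
    have h := card_eq_card_quotient_mul_card_subgroup (center SL)
    rw [hz, card_SL] at h
    exact (mul_comm _ _).trans h.symm
  refine not_hall hm (L := SL ⧸ center SL) hgm ?_ (Nat.coprime_of_dvd fun s hsp hsd hsm => ?_) fun K hK => ?_
  · exact Nat.dvd_of_mul_dvd_mul_left two_pos (hL ▸ hgN)
  · refine hs s hsp hsm (hL ▸ Nat.mul_dvd_mul_left 2 ?_)
    have h1 : g ∣ Nat.card (SL ⧸ center SL) := Nat.dvd_of_mul_dvd_mul_left two_pos (hL ▸ hgN)
    have := Nat.mul_dvd_mul_left g hsd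
    rwa [Nat.mul_div_cancel' h1, mul_comm] at this
  · set H := K.comap (QuotientGroup.mk' (center SL)) with hH
    have hneg : (-1 : SL) ∈ H := by
      have hc : (-1 : SL) ∈ center SL := mem_center_iff.mpr fun x => neg_one_central x
      rw [hH, mem_comap, show QuotientGroup.mk' (center SL) (-1) = 1 from (QuotientGroup.eq_one_iff _).mpr hc]
      exact one_mem K
    refine hno H hneg ?_
    have h1 := card_mul_index H
    rw [hH, index_comap_of_surjective _ (QuotientGroup.mk'_surjective _), card_SL, ← hL, ← card_mul_index K, hK] at h1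
    exact Nat.eq_of_mul_eq_mul_right (Nat.pos_of_ne_zero index_ne_zero_of_finite) (h1.trans (by ring))

theorem sl_counter {m g r : ℕ} [Fact r.Prime] (hm : 0 < m) (hgm : g ∣ m) (hgN : g ∣ r * (r ^ 2 - 1))
    (hs : ∀ s, s.Prime → s ∣ m → ¬ s * g ∣ r * (r ^ 2 - 1))
    (hno : ∀ H : Subgroup (Matrix.SpecialLinearGroup (Fin 2) (ZMod r)), Nat.card H ≠ g) : ¬ HallProp m := by
  refine not_hall hm (L := Matrix.SpecialLinearGroup (Fin 2) (ZMod r)) hgm (by rwa [card_SL])
    (Nat.coprime_of_dvd fun s hsp hsd hsm => hs s hsp hsm ?_) hno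
  rw [card_SL] at hsd
  have := Nat.mul_dvd_mul_left g hsd
  rwa [Nat.mul_div_cancel' hgN, mul_comm] at this

/-- Odd numbers with two prime divisors. -/
theorem not_hall_odd {m : ℕ} (hm : 2 ≤ m) (hodd : ¬ 2 ∣ m) (hpp : ¬ IsPrimePow m) : ¬ HallProp m := by
  have hp : m.minFac.Prime := Nat.minFac_prime (by omega)
  set p := m.minFac with hpdef
  have hpm : p ∣ m := Nat.minFac_dvd m
  obtain ⟨q, hq, hqm, hqp⟩ : ∃ q, q.Prime ∧ q ∣ m ∧ q ≠ p := by
    by_contra hc
    push Not at hc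
    exact hpp (isPrimePow_iff_unique_prime_dvd.mpr ⟨p, ⟨hp, hpm⟩, fun q hq => hc q hq.1 hq.2⟩)
  have hpq : p < q := lt_of_le_of_ne (Nat.minFac_le_of_dvd hq.two_le hqm) (Ne.symm hqp)
  have hp3 : 3 ≤ p := by
    rcases Nat.lt_or_ge p 3 with h | h
    · have := hp.two_le
      exact absurd ((show p = 2 by omega) ▸ hpm) hodd
    · exact h
  have hcpq : Nat.Coprime (p ^ 2) (q ^ 2) := ((Nat.coprime_primes hp hq).mpr (Ne.symm hqp)).pow 2 2
  obtain ⟨a, ha1, ha2⟩ := Nat.chineseRemainder hcpq (p - 1) (1 + q)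
  have hna : a.Coprime (p ^ 2 * q ^ 2) := by
    refine Nat.Coprime.mul_right ?_ ?_
    · rw [Nat.Coprime, ha1.gcd_eq]
      refine Nat.Coprime.pow_right 2 (hp.coprime_iff_not_dvd.mpr fun hd => ?_).symm
      have := Nat.le_of_dvd (by omega) hd
      omega
    · rw [Nat.Coprime, ha2.gcd_eq]
      refine Nat.Coprime.pow_right 2 (hq.coprime_iff_not_dvd.mpr fun hd => ?_).symm
      have := (Nat.dvd_add_left (dvd_refl q)).mp hd
      exact hq.one_lt.ne' (Nat.dvd_one.mp this)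
  obtain ⟨r, hr, hr2, hra, hrS⟩ := exists_r (Nat.mul_pos (pow_pos hp.pos 2) (pow_pos hq.pos 2)) hna
    (m.primeFactors \ {p, q}) (fun s hs => by
      simp only [Finset.mem_sdiff, Nat.mem_primeFactors, Finset.mem_insert, Finset.mem_singleton, not_or] at hs
      obtain ⟨⟨hsp, hsm, -⟩, hsp', hsq'⟩ := hs
      refine ⟨hsp, fun hd => ?_, ?_⟩
      · rcases hsp.dvd_mul.mp hd with h | h
        · exact hsp' ((Nat.prime_dvd_prime_iff_eq hsp hp).mp (hsp.dvd_of_dvd_pow h))
        · exact hsq' ((Nat.prime_dvd_prime_iff_eq hsp hq).mp (hsp.dvd_of_dvd_pow h))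
      · have := Nat.minFac_le_of_dvd hsp.two_le hsm
        by_contra h5
        have h4 : s = 4 := by omega
        rw [h4] at hsp
        norm_num at hsp)
  haveI := Fact.mk hr
  haveI := Fact.mk hq
  have hrp : r ≡ p - 1 [MOD p ^ 2] := (hra.of_dvd (dvd_mul_right _ _)).trans ha1
  have hrq : r ≡ 1 + q [MOD q ^ 2] := (hra.of_dvd (dvd_mul_left _ _)).trans ha2
  obtain ⟨i, hi⟩ : ∃ i, p = i + 3 := ⟨p - 3, by omega⟩
  have hP : (p - 1) * ((p - 1) ^ 2 - 1) = p * ((i + 2) * (i + 1)) := by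
    rw [hi, show i + 3 - 1 = i + 2 by omega, show (i + 2) ^ 2 - 1 = (i + 3) * (i + 1) by
      rw [show (i + 2) ^ 2 = (i + 3) * (i + 1) + 1 by ring, Nat.add_sub_cancel]]
    ring
  have hQ : (1 + q) * ((1 + q) ^ 2 - 1) = q * ((1 + q) * (q + 2)) := by
    rw [show (1 + q) ^ 2 = q * (q + 2) + 1 by ring, Nat.add_sub_cancel]
    ring
  have hpN : ¬ p ^ 2 ∣ r * (r ^ 2 - 1) := by
    rw [modEq_order hr.one_lt.le (by omega) hrp, hP, pow_two]
    intro hd
    rcases hp.dvd_mul.mp (Nat.dvd_of_mul_dvd_mul_left hp.pos hd) with h | h <;>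
      have := Nat.le_of_dvd (by omega) h <;> omega
  have hqN : ¬ q ^ 2 ∣ r * (r ^ 2 - 1) := by
    rw [modEq_order hr.one_lt.le (by omega) hrq, hQ, pow_two]
    intro hd
    have h1 : 3 < q := by omega
    rcases hq.dvd_mul.mp (Nat.dvd_of_mul_dvd_mul_left hq.pos hd) with h | h
    · exact hq.one_lt.ne' (Nat.dvd_one.mp ((Nat.dvd_add_left (dvd_refl q)).mp h))
    · have := Nat.le_of_dvd two_pos ((Nat.dvd_add_right (dvd_refl q)).mp h)
      omega
  refine sl_counter (g := p * q) (r := r) (by omega)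
    (Nat.Coprime.mul_dvd_of_dvd_of_dvd ((Nat.coprime_primes hp hq).mpr (Ne.symm hqp)) hpm hqm) ?_ ?_ ?_
  · refine Nat.Coprime.mul_dvd_of_dvd_of_dvd ((Nat.coprime_primes hp hq).mpr (Ne.symm hqp)) ?_ ?_
    · rw [modEq_order hr.one_lt.le (by omega) (hrp.of_dvd (dvd_pow_self p two_ne_zero)), hP]
      exact dvd_mul_right _ _
    · rw [modEq_order hr.one_lt.le (by omega) (hrq.of_dvd (dvd_pow_self q two_ne_zero)), hQ]
      exact dvd_mul_right _ _
  · intro s hsp hsm hd
    by_cases hsT : s = p ∨ s = q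
    · rcases hsT with rfl | rfl
      · exact hpN ((by rw [pow_two]; exact mul_dvd_mul_left _ (dvd_mul_right _ _) :
          p ^ 2 ∣ p * (p * q)).trans hd)
      · exact hqN ((by rw [pow_two]; exact mul_dvd_mul_left _ (dvd_mul_left _ _) :
          s ^ 2 ∣ s * (p * s)).trans hd)
    · refine hrS s ?_ ((dvd_mul_right _ _).trans hd)
      simp only [Finset.mem_sdiff, Nat.mem_primeFactors, Finset.mem_insert, Finset.mem_singleton]
      exact ⟨⟨hsp, hsm, by omega⟩, hsT⟩
  · refine no_pq (by omega) hp (by omega) hpq ?_ ?_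
    · rw [modEq_pred hr.one_lt.le (by omega) (hrq.of_dvd (dvd_pow_self q two_ne_zero))]
      exact ⟨1, by omega⟩
    · rw [modEq_pred hr.one_lt.le (by omega) (hrp.of_dvd (dvd_pow_self p two_ne_zero))]
      intro hd
      have := Nat.le_of_dvd (by omega) hd
      omega

/-- The common part of the constructions for multiples of four. -/
theorem counter_of_class {m g A a : ℕ} (hm : 0 < m) (T : Finset ℕ) (hT : ∀ s, s.Prime → s ∣ A → s ∈ T)
    (hT5 : ∀ s, s.Prime → s ∣ m → s ∉ T → 5 ≤ s) (hA : 0 < A) (ha : a.Coprime A) (hgm : g ∣ m)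
    (hN : ∀ r, r.Prime → 2 < r → r ≡ a [MOD A] → 2 * g ∣ r * (r ^ 2 - 1) ∧
      (∀ s ∈ T, s.Prime → s ∣ m → ¬ 2 * (s * g) ∣ r * (r ^ 2 - 1)) ∧
      ∀ H : Subgroup (Matrix.SpecialLinearGroup (Fin 2) (ZMod r)),
        (-1 : Matrix.SpecialLinearGroup (Fin 2) (ZMod r)) ∈ H → Fact r.Prime → Nat.card H ≠ 2 * g) :
    ¬ HallProp m := by
  obtain ⟨r, hr, hr2, hra, hrS⟩ := exists_r hA ha (m.primeFactors \ T) (fun s hs => by
    simp only [Finset.mem_sdiff, Nat.mem_primeFactors] at hs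
    exact ⟨hs.1.1, fun hd => hs.2 (hT s hs.1.1 hd), hT5 s hs.1.1 hs.1.2.1 hs.2⟩)
  haveI := Fact.mk hr
  obtain ⟨h1, h2, h3⟩ := hN r hr hr2 hra
  refine psl_counter hm (by omega) hgm h1 (fun s hsp hsm hd => ?_) fun H hH => h3 H hH inferInstance
  by_cases hsT : s ∈ T
  · exact h2 s hsT hsp hsm hd
  · refine hrS s ?_ (((dvd_mul_right _ _).trans (dvd_mul_left _ _)).trans hd)
    simp only [Finset.mem_sdiff, Nat.mem_primeFactors]
    exact ⟨⟨hsp, hsm, by omega⟩, hsT⟩

theorem not_hall_nine {m : ℕ} (hm : 0 < m) (h4 : 4 ∣ m) (h9 : 9 ∣ m) : ¬ HallProp m := by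
  refine counter_of_class (g := 36) (A := 432) (a := 91) hm {2, 3} (fun s hs hd => ?_) (fun s hs _ hsT => ?_)
    (by norm_num) (by norm_num) (Nat.Coprime.mul_dvd_of_dvd_of_dvd (m := 4) (n := 9) (by norm_num) h4 h9)
    fun r hr hr2 hra => ⟨?_, ?_, fun H hH _ => ?_⟩
  · rw [show 432 = 2 ^ 4 * 3 ^ 3 by norm_num] at hd
    rcases hs.dvd_mul.mp hd with h | h
    · simp [(Nat.prime_dvd_prime_iff_eq hs Nat.prime_two).mp (hs.dvd_of_dvd_pow h)]
    · simp [(Nat.prime_dvd_prime_iff_eq hs Nat.prime_three).mp (hs.dvd_of_dvd_pow h)]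
  · simp only [Finset.mem_insert, Finset.mem_singleton, not_or] at hsT
    have := hs.two_le
    have h4' : s ≠ 4 := fun e => by rw [e] at hs; norm_num at hs
    omega
  · rw [modEq_order hr.one_lt.le (by norm_num) (hra.of_dvd (by norm_num))]; norm_num
  · intro s hs hsp hsm hd
    simp only [Finset.mem_insert, Finset.mem_singleton] at hs
    rcases hs with rfl | rfl
    · have := (modEq_order hr.one_lt.le (by norm_num) (hra.of_dvd (by norm_num : 2 * (2 * 36) ∣ 432))).mp hd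
      norm_num at this
    · have := (modEq_order hr.one_lt.le (by norm_num) (hra.of_dvd (by norm_num : 2 * (3 * 36) ∣ 432))).mp hd
      norm_num at this
  · exact no_72 (by omega) ((modEq_pred hr.one_lt.le (by norm_num) (hra.of_dvd (by norm_num))).mpr (by norm_num))
      (fun hd => absurd ((modEq_pred hr.one_lt.le (by norm_num) (hra.of_dvd (by norm_num))).mp hd) (by norm_num))
      H hH

theorem not_hall_sixteen {m : ℕ} (hm : 0 < m) (h16 : 16 ∣ m) (h3 : 3 ∣ m) : ¬ HallProp m := by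
  refine counter_of_class (g := 48) (A := 576) (a := 175) hm {2, 3} (fun s hs hd => ?_) (fun s hs _ hsT => ?_)
    (by norm_num) (by norm_num) (Nat.Coprime.mul_dvd_of_dvd_of_dvd (m := 16) (n := 3) (by norm_num) h16 h3)
    fun r hr hr2 hra => ⟨?_, ?_, fun H hH _ => ?_⟩
  · rw [show 576 = 2 ^ 6 * 3 ^ 2 by norm_num] at hd
    rcases hs.dvd_mul.mp hd with h | h
    · simp [(Nat.prime_dvd_prime_iff_eq hs Nat.prime_two).mp (hs.dvd_of_dvd_pow h)]
    · simp [(Nat.prime_dvd_prime_iff_eq hs Nat.prime_three).mp (hs.dvd_of_dvd_pow h)]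
  · simp only [Finset.mem_insert, Finset.mem_singleton, not_or] at hsT
    have := hs.two_le
    have h4' : s ≠ 4 := fun e => by rw [e] at hs; norm_num at hs
    omega
  · rw [modEq_order hr.one_lt.le (by norm_num) (hra.of_dvd (by norm_num))]; norm_num
  · intro s hs hsp hsm hd
    simp only [Finset.mem_insert, Finset.mem_singleton] at hs
    rcases hs with rfl | rfl
    · have := (modEq_order hr.one_lt.le (by norm_num) (hra.of_dvd (by norm_num : 2 * (2 * 48) ∣ 576))).mp hd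
      norm_num at this
    · have := (modEq_order hr.one_lt.le (by norm_num) (hra.of_dvd (by norm_num : 2 * (3 * 48) ∣ 576))).mp hd
      norm_num at this
  · exact no_96 (by omega) ((modEq_pred hr.one_lt.le (by norm_num) (hra.of_dvd (by norm_num))).mpr (by norm_num))
      (fun hd => absurd ((modEq_pred hr.one_lt.le (by norm_num) (hra.of_dvd (by norm_num))).mp hd) (by norm_num))
      (by
        rw [card_SL, modEq_order hr.one_lt.le (by norm_num) (hra.of_dvd (by norm_num : 2 ^ 6 ∣ 576))]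
        norm_num) H hH

theorem not_hall_eight {m : ℕ} (hm : 0 < m) (h8 : 8 ∣ m) (h3 : 3 ∣ m) (h5 : 5 ∣ m) : ¬ HallProp m := by
  refine counter_of_class (g := 120) (A := 7200) (a := 3431) hm {2, 3, 5} (fun s hs hd => ?_)
    (fun s hs _ hsT => ?_) (by norm_num) (by norm_num)
    (Nat.Coprime.mul_dvd_of_dvd_of_dvd (m := 24) (n := 5) (by norm_num)
      (Nat.Coprime.mul_dvd_of_dvd_of_dvd (m := 8) (n := 3) (by norm_num) h8 h3) h5)
    fun r hr hr2 hra => ⟨?_, ?_, fun H hH _ => ?_⟩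
  · rw [show 7200 = 2 ^ 5 * 3 ^ 2 * 5 ^ 2 by norm_num] at hd
    rcases hs.dvd_mul.mp hd with h | h
    · rcases hs.dvd_mul.mp h with h | h
      · simp [(Nat.prime_dvd_prime_iff_eq hs Nat.prime_two).mp (hs.dvd_of_dvd_pow h)]
      · simp [(Nat.prime_dvd_prime_iff_eq hs Nat.prime_three).mp (hs.dvd_of_dvd_pow h)]
    · simp [(Nat.prime_dvd_prime_iff_eq hs Nat.prime_five).mp (hs.dvd_of_dvd_pow h)]
  · simp only [Finset.mem_insert, Finset.mem_singleton, not_or] at hsT
    have := hs.two_le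
    have h4' : s ≠ 4 := fun e => by rw [e] at hs; norm_num at hs
    omega
  · rw [modEq_order hr.one_lt.le (by norm_num) (hra.of_dvd (by norm_num))]; norm_num
  · intro s hs hsp hsm hd
    simp only [Finset.mem_insert, Finset.mem_singleton] at hs
    rcases hs with rfl | rfl | rfl
    · have := (modEq_order hr.one_lt.le (by norm_num) (hra.of_dvd (by norm_num : 2 * (2 * 120) ∣ 7200))).mp hd
      norm_num at this
    · have := (modEq_order hr.one_lt.le (by norm_num) (hra.of_dvd (by norm_num : 2 * (3 * 120) ∣ 7200))).mp hd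
      norm_num at this
    · have := (modEq_order hr.one_lt.le (by norm_num) (hra.of_dvd (by norm_num : 2 * (5 * 120) ∣ 7200))).mp hd
      norm_num at this
  · exact no_240 (by omega) ((modEq_pred hr.one_lt.le (by norm_num) (hra.of_dvd (by norm_num))).mpr (by norm_num))
      (fun hd => absurd ((modEq_pred hr.one_lt.le (by norm_num) (hra.of_dvd (by norm_num))).mp hd) (by norm_num))
      (fun hd => absurd ((modEq_pred hr.one_lt.le (by norm_num) (hra.of_dvd (by norm_num))).mp hd) (by norm_num))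
      H hH

theorem not_hall_twentyfive {m : ℕ} (hm : 0 < m) (h4 : 4 ∣ m) (h3 : 3 ∣ m) (h25 : 25 ∣ m) : ¬ HallProp m := by
  refine counter_of_class (g := 300) (A := 18000) (a := 8651) hm {2, 3, 5} (fun s hs hd => ?_)
    (fun s hs _ hsT => ?_) (by norm_num) (by norm_num)
    (Nat.Coprime.mul_dvd_of_dvd_of_dvd (m := 12) (n := 25) (by norm_num)
      (Nat.Coprime.mul_dvd_of_dvd_of_dvd (m := 4) (n := 3) (by norm_num) h4 h3) h25)
    fun r hr hr2 hra => ⟨?_, ?_, fun H hH _ => ?_⟩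
  · rw [show 18000 = 2 ^ 4 * 3 ^ 2 * 5 ^ 3 by norm_num] at hd
    rcases hs.dvd_mul.mp hd with h | h
    · rcases hs.dvd_mul.mp h with h | h
      · simp [(Nat.prime_dvd_prime_iff_eq hs Nat.prime_two).mp (hs.dvd_of_dvd_pow h)]
      · simp [(Nat.prime_dvd_prime_iff_eq hs Nat.prime_three).mp (hs.dvd_of_dvd_pow h)]
    · simp [(Nat.prime_dvd_prime_iff_eq hs Nat.prime_five).mp (hs.dvd_of_dvd_pow h)]
  · simp only [Finset.mem_insert, Finset.mem_singleton, not_or] at hsT
    have := hs.two_le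
    have h4' : s ≠ 4 := fun e => by rw [e] at hs; norm_num at hs
    omega
  · rw [modEq_order hr.one_lt.le (by norm_num) (hra.of_dvd (by norm_num))]; norm_num
  · intro s hs hsp hsm hd
    simp only [Finset.mem_insert, Finset.mem_singleton] at hs
    rcases hs with rfl | rfl | rfl
    · have := (modEq_order hr.one_lt.le (by norm_num) (hra.of_dvd (by norm_num : 2 * (2 * 300) ∣ 18000))).mp hd
      norm_num at this
    · have := (modEq_order hr.one_lt.le (by norm_num) (hra.of_dvd (by norm_num : 2 * (3 * 300) ∣ 18000))).mp hd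
      norm_num at this
    · have := (modEq_order hr.one_lt.le (by norm_num) (hra.of_dvd (by norm_num : 2 * (5 * 300) ∣ 18000))).mp hd
      norm_num at this
  · exact no_600 (by omega) ((modEq_pred hr.one_lt.le (by norm_num) (hra.of_dvd (by norm_num))).mpr (by norm_num))
      (fun hd => absurd ((modEq_pred hr.one_lt.le (by norm_num) (hra.of_dvd (by norm_num))).mp hd) (by norm_num))
      (fun hd => absurd ((modEq_pred hr.one_lt.le (by norm_num) (hra.of_dvd (by norm_num))).mp hd) (by norm_num))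
      H hH

/-- Multiples of four with a prime divisor at least five, other than five together with three. -/
theorem not_hall_prime {m p : ℕ} (hm : 0 < m) (h4 : 4 ∣ m) (hp : p.Prime) (hp5 : 5 ≤ p) (hpm : p ∣ m)
    (hcase : ¬ 3 ∣ m ∨ 7 ≤ p) : ¬ HallProp m := by
  haveI := Fact.mk hp
  obtain ⟨t, ht, htm, h3t⟩ : ∃ t, (t = 1 ∨ (t = 3 ∧ 7 ≤ p)) ∧ t ∣ m ∧ (3 ∣ m → t = 3) := by
    by_cases h3 : 3 ∣ m
    · exact ⟨3, Or.inr ⟨rfl, hcase.resolve_left (not_not.mpr h3)⟩, h3, fun _ => rfl⟩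
    · exact ⟨1, Or.inl rfl, one_dvd m, fun h => absurd h h3⟩
  have hp2 : Nat.Coprime p 2 := (Nat.coprime_primes hp Nat.prime_two).mpr (by omega)
  have hp3 : Nat.Coprime p 3 := (Nat.coprime_primes hp Nat.prime_three).mpr (by omega)
  have hc144 : Nat.Coprime 144 (p ^ 2) := by
    rw [show 144 = 2 ^ 4 * 3 ^ 2 by norm_num]
    exact (Nat.Coprime.mul_left (hp2.symm.pow 4 2) (hp3.symm.pow 2 2))
  obtain ⟨a, ha1, ha2⟩ := Nat.chineseRemainder hc144 11 (1 + p)
  have hna : a.Coprime (144 * p ^ 2) := by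
    refine Nat.Coprime.mul_right ?_ ?_
    · rw [Nat.Coprime, ha1.gcd_eq]; norm_num
    · rw [Nat.Coprime, ha2.gcd_eq]
      refine Nat.Coprime.pow_right 2 (hp.coprime_iff_not_dvd.mpr fun hd => ?_).symm
      exact hp.one_lt.ne' (Nat.dvd_one.mp ((Nat.dvd_add_left (dvd_refl p)).mp hd))
  have ht' : Nat.Coprime 4 t ∧ Nat.Coprime p t := by
    rcases ht with rfl | ⟨rfl, -⟩
    · exact ⟨Nat.coprime_one_right 4, Nat.coprime_one_right p⟩
    · exact ⟨by norm_num, hp3⟩
  refine counter_of_class (g := p * (4 * t)) (A := 144 * p ^ 2) (a := a) hm {2, 3, p} (fun s hs hd => ?_)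
    (fun s hs _ hsT => ?_) (Nat.mul_pos (by norm_num) (pow_pos hp.pos 2)) hna
    (Nat.Coprime.mul_dvd_of_dvd_of_dvd (Nat.Coprime.mul_right (hp2.pow_right 2) ht'.2) hpm
      (Nat.Coprime.mul_dvd_of_dvd_of_dvd ht'.1 h4 htm))
    fun r hr hr2 hra => ?_
  · rcases hs.dvd_mul.mp hd with h | h
    · rw [show 144 = 2 ^ 4 * 3 ^ 2 by norm_num] at h
      rcases hs.dvd_mul.mp h with h | h
      · simp [(Nat.prime_dvd_prime_iff_eq hs Nat.prime_two).mp (hs.dvd_of_dvd_pow h)]
      · simp [(Nat.prime_dvd_prime_iff_eq hs Nat.prime_three).mp (hs.dvd_of_dvd_pow h)]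
    · simp [(Nat.prime_dvd_prime_iff_eq hs hp).mp (hs.dvd_of_dvd_pow h)]
  · simp only [Finset.mem_insert, Finset.mem_singleton, not_or] at hsT
    have := hs.two_le
    have h4' : s ≠ 4 := fun e => by rw [e] at hs; norm_num at hs
    omega
  have h144 : r ≡ 11 [MOD 144] := (hra.of_dvd (dvd_mul_right _ _)).trans ha1
  have hrp : r ≡ 1 + p [MOD p ^ 2] := (hra.of_dvd (dvd_mul_left _ _)).trans ha2
  have hP : (1 + p) * ((1 + p) ^ 2 - 1) = p * ((1 + p) * (p + 2)) := by
    rw [show (1 + p) ^ 2 = p * (p + 2) + 1 by ring, Nat.add_sub_cancel]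
    ring
  have hpN : p ∣ r * (r ^ 2 - 1) := by
    rw [modEq_order hr.one_lt.le (by omega) (hrp.of_dvd (dvd_pow_self p two_ne_zero)), hP]
    exact dvd_mul_right _ _
  have hpN2 : ¬ p ^ 2 ∣ r * (r ^ 2 - 1) := by
    rw [modEq_order hr.one_lt.le (by omega) hrp, hP, pow_two]
    intro hd
    rcases hp.dvd_mul.mp (Nat.dvd_of_mul_dvd_mul_left hp.pos hd) with h | h
    · exact hp.one_lt.ne' (Nat.dvd_one.mp ((Nat.dvd_add_left (dvd_refl p)).mp h))
    · have := Nat.le_of_dvd two_pos ((Nat.dvd_add_right (dvd_refl p)).mp h)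
      omega
  have h24 : ∀ k, k ∣ 144 → (k ∣ r * (r ^ 2 - 1) ↔ k ∣ 1320) := fun k hk => by
    rw [modEq_order hr.one_lt.le (by norm_num) (h144.of_dvd hk), show 11 * (11 ^ 2 - 1) = 1320 by norm_num]
  refine ⟨?_, ?_, fun H hH _ => ?_⟩
  · rw [show 2 * (p * (4 * t)) = p * (8 * t) by ring]
    refine Nat.Coprime.mul_dvd_of_dvd_of_dvd ?_ hpN ?_
    · exact Nat.Coprime.mul_right (hp2.pow_right 3) ht'.2
    · rcases ht with rfl | ⟨rfl, -⟩ <;> rw [h24 _ (by norm_num)] <;> norm_num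
  · intro s hs hsp hsm hd
    simp only [Finset.mem_insert, Finset.mem_singleton] at hs
    rcases hs with rfl | rfl | rfl
    · have h1 : 16 ∣ r * (r ^ 2 - 1) := (Dvd.intro (p * t) (by ring)).trans hd
      rw [h24 16 (by norm_num)] at h1
      norm_num at h1
    · obtain rfl := h3t hsm
      have h1 : 9 ∣ r * (r ^ 2 - 1) := (Dvd.intro (p * 8) (by ring)).trans hd
      rw [h24 9 (by norm_num)] at h1
      norm_num at h1
    · exact hpN2 ((Dvd.intro (8 * t) (by ring)).trans hd)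
  · rw [show 2 * (p * (4 * t)) = p * (8 * t) by ring]
    refine no_eight_p (by omega) hp5 ?_ ht ?_ ?_ H hH
    · rw [modEq_pred hr.one_lt.le (by omega) (hrp.of_dvd (dvd_pow_self p two_ne_zero))]
      exact ⟨1, by omega⟩
    · rw [modEq_pred hr.one_lt.le (by norm_num) (h144.of_dvd (by norm_num))]; norm_num
    · rw [modEq_pred hr.one_lt.le (by norm_num) (h144.of_dvd (by norm_num))]; norm_num

/-- A number is determined by the prime powers dividing it. -/
theorem eq_of_pows {m n : ℕ} (hnm : n ∣ m) (h : ∀ p k, p.Prime → p ^ k ∣ m → p ^ k ∣ n) : m = n :=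
  Nat.dvd_antisymm (Nat.dvd_iff_prime_pow_dvd_dvd n m |>.mpr h) hnm

theorem necessary {m : ℕ} (hm : 2 ≤ m) (h : HallProp m) :
    IsPrimePow m ∨ m % 4 = 2 ∨ m = 12 ∨ m = 24 ∨ m = 60 := by
  by_contra hc
  push Not at hc
  obtain ⟨hpp, hm4, h12, h24, h60⟩ := hc
  by_cases h2 : 2 ∣ m
  swap
  · exact not_hall_odd hm h2 hpp h
  have hm0 : 0 < m := by omega
  have h4 : 4 ∣ m := by omega
  by_cases hbig : ∃ p, p.Prime ∧ 5 ≤ p ∧ p ∣ m ∧ (¬ 3 ∣ m ∨ 7 ≤ p)
  · obtain ⟨p, hp, hp5, hpm, hcase⟩ := hbig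
    exact not_hall_prime hm0 h4 hp hp5 hpm hcase h
  push Not at hbig
  have hsmall : ∀ p, p.Prime → p ∣ m → p = 2 ∨ p = 3 ∨ (p = 5 ∧ 3 ∣ m) := by
    intro p hp hpm
    have := hp.two_le
    rcases Nat.lt_or_ge p 5 with h5 | h5
    · have h4' : p ≠ 4 := fun e => by rw [e] at hp; norm_num at hp
      omega
    · obtain ⟨h3, h7⟩ := hbig p hp h5 hpm
      have h6 : p ≠ 6 := fun e => by rw [e] at hp; norm_num at hp
      exact Or.inr (Or.inr ⟨by omega, h3⟩)
  have h3 : 3 ∣ m := by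
    by_contra h3
    refine hpp (isPrimePow_iff_unique_prime_dvd.mpr ⟨2, ⟨Nat.prime_two, h2⟩, fun q hq => ?_⟩)
    rcases hsmall q hq.1 hq.2 with e | e | ⟨-, e⟩
    · exact e
    · exact absurd (e ▸ hq.2) h3
    · exact absurd e h3
  by_cases h9 : 9 ∣ m
  · exact not_hall_nine hm0 h4 h9 h
  by_cases h16 : 16 ∣ m
  · exact not_hall_sixteen hm0 h16 h3 h
  have hfin : ∀ n, n ∣ m → 3 ∣ n → (∀ k, 2 ^ k ∣ m → 2 ^ k ∣ n) → (∀ k, 5 ^ k ∣ m → 5 ^ k ∣ n) → m = n := by
    intro n hn hn3 hn2 hn5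
    refine eq_of_pows hn fun p k hp hpk => ?_
    rcases Nat.eq_zero_or_pos k with rfl | hk
    · rw [pow_zero]; exact one_dvd n
    rcases hsmall p hp ((dvd_pow_self p hk.ne').trans hpk) with rfl | rfl | ⟨rfl, -⟩
    · exact hn2 k hpk
    · have : k < 2 := by
        by_contra hlt
        push Not at hlt
        exact h9 ((pow_dvd_pow 3 hlt).trans hpk)
      obtain rfl : k = 1 := by omega
      rwa [pow_one]
    · exact hn5 k hpk
  have h5k : ¬ 5 ∣ m → ∀ n k, 5 ^ k ∣ m → 5 ^ k ∣ n := fun h5 n k hk => by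
    rcases Nat.eq_zero_or_pos k with rfl | hk0
    · rw [pow_zero]; exact one_dvd n
    · exact absurd ((dvd_pow_self 5 hk0.ne').trans hk) h5
  by_cases h8 : 8 ∣ m
  · by_cases h5 : 5 ∣ m
    · exact not_hall_eight hm0 h8 h3 h5 h
    refine h24 (hfin 24 (Nat.Coprime.mul_dvd_of_dvd_of_dvd (m := 8) (n := 3) (by norm_num) h8 h3) (by norm_num)
      (fun k hk => ?_) (h5k h5 24))
    have : k < 4 := by
      by_contra hlt
      push Not at hlt
      exact h16 ((pow_dvd_pow 2 hlt).trans hk)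
    exact (pow_dvd_pow 2 (show k ≤ 3 by omega)).trans (by norm_num)
  have h2k : ∀ n k, 4 ∣ n → 2 ^ k ∣ m → 2 ^ k ∣ n := fun n k hn hk => by
    have : k < 3 := by
      by_contra hlt
      push Not at hlt
      exact h8 ((pow_dvd_pow 2 hlt).trans hk)
    exact (pow_dvd_pow 2 (show k ≤ 2 by omega)).trans (by simpa using hn)
  by_cases h5 : 5 ∣ m
  · by_cases h25 : 25 ∣ m
    · exact not_hall_twentyfive hm0 h4 h3 h25 h
    refine h60 (hfin 60 (Nat.Coprime.mul_dvd_of_dvd_of_dvd (m := 12) (n := 5) (by norm_num)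
      (Nat.Coprime.mul_dvd_of_dvd_of_dvd (m := 4) (n := 3) (by norm_num) h4 h3) h5) (by norm_num)
      (fun k => h2k 60 k (by norm_num)) (fun k hk => ?_))
    have : k < 2 := by
      by_contra hlt
      push Not at hlt
      exact h25 ((pow_dvd_pow 5 hlt).trans hk)
    exact (pow_dvd_pow 5 (show k ≤ 1 by omega)).trans (by norm_num)
  exact h12 (hfin 12 (Nat.Coprime.mul_dvd_of_dvd_of_dvd (m := 4) (n := 3) (by norm_num) h4 h3) (by norm_num)
    (fun k => h2k 12 k (by norm_num)) (h5k h5 12))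

end CfsgLib.HallNumbers
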