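import Cfsg.Agent.Lib.SL2Char.Tori
import Cfsg.Agent.Lib.HallE8.Core

/-!
Sylow normalizers in subgroups of `SL₂(q)` at odd primes dividing `q - 1`.
-/

set_option autoImplicit false
set_option linter.unusedSectionVars false
set_option linter.style.haveILetI false

namespace CfsgLib.HallNumbers

open Subgroup
open scoped Pointwise

universe u

/-- If centralizers of nontrivial `p`-elements are abelian, the number of Sylow `p`-subgroups is `1` modulo their
order. -/
theorem sylow_modEq_card {H : Type u} [Group H] [Finite H] {p : ℕ} [Fact p.Prime]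
    (hab : ∀ x : H, x ≠ 1 → (∃ k, x ^ p ^ k = 1) → ∀ a b : H, a * x = x * a → b * x = x * b → a * b = b * a)
    (P : Sylow p H) : Nat.card (Sylow p H) ≡ 1 [MOD Nat.card (P : Subgroup H)] := by
  classical
  haveI := Fintype.ofFinite (Sylow p H)
  set Γ := (P : Subgroup H)
  -- the stabilizer of another Sylow subgroup is trivial
  have hfix : ∀ Q : Sylow p H, Q ≠ P → MulAction.stabilizer Γ Q = ⊥ := by
    intro Q hQ
    refine (eq_bot_iff_forall _).mpr fun x hx => ?_
    by_contra hx1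
    have h1 : (x : H) ∈ Γ ⊓ normalizer (Q : Set H) :=
      ⟨x.2, Sylow.smul_eq_iff_mem_normalizer.mp (MulAction.mem_stabilizer_iff.mp hx :)⟩
    rw [IsPGroup.inf_normalizer_sylow P.2 Q] at h1
    obtain ⟨k, hk⟩ := P.2 x
    have hx1' : (x : H) ≠ 1 := fun e => hx1 (Subtype.ext e)
    have hxk : (x : H) ^ p ^ k = 1 := by simpa using congrArg Subtype.val hk
    obtain ⟨kP, hkP⟩ := IsPGroup.iff_card.mp P.2
    obtain ⟨kQ, hkQ⟩ := IsPGroup.iff_card.mp Q.2
    -- both groups are abelian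
    have habP : ∀ (R : Sylow p H), (x : H) ∈ (R : Subgroup H) → ∀ a ∈ (R : Subgroup H), a * (x : H) = x * a := by
      intro R hxR a ha
      haveI : Nontrivial (R : Subgroup H) := ⟨⟨x, hxR⟩, 1, fun e => hx1' (congrArg Subtype.val e)⟩
      haveI := R.2.center_nontrivial
      obtain ⟨⟨z, hz⟩, hz1⟩ := exists_ne (1 : Subgroup.center (R : Subgroup H))
      obtain ⟨j, hj⟩ := R.2 z
      refine hab (z : H) (fun e => hz1 (Subtype.ext (Subtype.ext e))) ⟨j, by simpa using congrArg Subtype.val hj⟩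
        a x ?_ ?_
      · exact congrArg Subtype.val (Subgroup.mem_center_iff.mp hz ⟨a, ha⟩)
      · exact congrArg Subtype.val (Subgroup.mem_center_iff.mp hz ⟨x, hxR⟩)
    refine hQ ?_
    have hle : Γ ≤ normalizer (Q : Set H) := fun a ha => centralizer_le_normalizer _
      (mem_centralizer_iff.mpr fun b hb => (hab x hx1' ⟨k, hxk⟩ a b (habP P x.2 a ha) (habP Q h1.2 b hb)).symm)
    have h2 := IsPGroup.inf_normalizer_sylow P.2 Q
    rw [inf_eq_left.mpr hle] at h2
    exact Sylow.ext (P.3 Q.2 (inf_eq_left.mp h2.symm))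
  have hsum := Nat.card_congr (MulAction.selfEquivSigmaOrbitsQuotientStabilizer Γ (Sylow p H))
  letI := Fintype.ofFinite (MulAction.orbitRel.Quotient Γ (Sylow p H))
  rw [Nat.card_sigma] at hsum
  set w₀ : MulAction.orbitRel.Quotient Γ (Sylow p H) := Quotient.mk'' P
  have hP : ∀ g : Γ, g • P = P := fun g => Sylow.smul_eq_iff_mem_normalizer.mpr (le_normalizer g.2) |> fun e => e
  have hout : ∀ w : MulAction.orbitRel.Quotient Γ (Sylow p H), w.out = P → w = w₀ := fun w hw => by
    rw [← Quotient.out_eq' w, hw]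
  have hw₀ : w₀.out = P := by
    have h1 : MulAction.orbitRel Γ (Sylow p H) w₀.out P := Quotient.exact' (Quotient.out_eq' w₀)
    obtain ⟨g, hg⟩ := h1
    have hg' : g • P = w₀.out := hg
    exact hg'.symm.trans (hP g)
  rw [hsum, ← Finset.add_sum_erase _ _ (Finset.mem_univ w₀)]
  have h1 : Nat.card (Γ ⧸ MulAction.stabilizer Γ w₀.out) = 1 := by
    have e : MulAction.stabilizer Γ w₀.out = ⊤ := top_le_iff.mp fun g _ => by
      rw [MulAction.mem_stabilizer_iff, hw₀]; exact hP g
    rw [e, ← Subgroup.index_eq_card, index_top]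
  rw [h1]
  refine (Nat.ModEq.add_left 1 ?_).trans (by rw [add_zero])
  refine Nat.modEq_zero_iff_dvd.mpr (Finset.dvd_sum fun w hw => ?_)
  have e := hfix w.out (fun e => (Finset.mem_erase.mp hw).1 (hout w e))
  rw [e, ← Subgroup.index_eq_card, index_bot]

variable {F : Type} [Field F] [Fintype F]

local notation "SL" => Matrix.SpecialLinearGroup (Fin 2) F

theorem neg_one_central (g : SL) : g * (-1) = (-1) * g := by
  apply Subtype.ext
  simp

/-- The structure at an odd prime `p ∣ q - 1` of a subgroup of `SL₂(q)`. -/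
theorem normalizer_bound (hodd : Odd (Fintype.card F)) {p : ℕ} [Fact p.Prime] (hp2 : p ≠ 2)
    (hdvd : p ∣ Fintype.card F - 1) (H : Subgroup SL) (hH : p ∣ Nat.card H) (P : Sylow p H) :
    Nat.card (normalizer ((P : Subgroup H) : Set H)) ∣ 2 * (Fintype.card F - 1) ∧
      Nat.card (Sylow p H) ≡ 1 [MOD Nat.card (P : Subgroup H)] := by
  classical
  obtain ⟨ℓ, hℓ⟩ := CharP.exists F
  haveI := hℓ
  haveI : Fact ℓ.Prime := ⟨CharP.char_is_prime F ℓ⟩
  have hp : p.Prime := Fact.out
  have hpl := SL2Tori.not_dvd_char (F := F) ℓ p hp (Or.inl hdvd)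
  have h2 := SL2Orders.two_ne_zero_of_odd hodd
  have hsemi : ∀ x : SL, x ≠ 1 → (∃ k, x ^ p ^ k = 1) → x.1.trace ^ 2 ≠ 4 := fun x hx ⟨k, hk⟩ =>
    SL2Tori.trace_ne_of_odd ℓ hp hp2 hpl hk hx
  refine ⟨?_, sylow_modEq_card (fun x hx ⟨k, hk⟩ a b ha hb => Subtype.ext (congrArg id
    (SL2Tori.commute_of_commute (SL2Tori.ns_of_trace (hsemi x (fun e => hx (Subtype.ext e))
      ⟨k, by simpa using congrArg Subtype.val hk⟩))
      (congrArg Subtype.val ha : (a : SL) * x = x * a) (congrArg Subtype.val hb : (b : SL) * x = x * b)).eq)) P⟩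
  haveI : Nontrivial (P : Subgroup H) := (Subgroup.nontrivial_iff_ne_bot _).mpr (P.ne_bot_of_dvd_card hH)
  haveI := P.2.center_nontrivial
  obtain ⟨⟨z, hz⟩, hz1⟩ := exists_ne (1 : Subgroup.center (P : Subgroup H))
  obtain ⟨k, hk⟩ := P.2 z
  set z' : SL := ((z : H) : SL) with hz'
  have hz'1 : z' ≠ 1 := fun e => hz1 (Subtype.ext (Subtype.ext (Subtype.ext e)))
  have hz'k : z' ^ p ^ k = 1 := by
    have := congrArg (fun w : (P : Subgroup H) => ((w : H) : SL)) hk
    simpa [hz'] using this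
  have htr := hsemi z' hz'1 ⟨k, hz'k⟩
  obtain ⟨hcyc, hcard⟩ := SL2Tori.isCyclic_centralizer htr
  set C := centralizer ({z'} : Set SL) with hC
  -- the Sylow subgroup is cyclic
  have hPC : (P : Subgroup H).map H.subtype ≤ C := by
    rintro _ ⟨a, ha, rfl⟩
    exact mem_centralizer_singleton_iff.mpr
      (congrArg (fun w : (P : Subgroup H) => ((w : H) : SL)) (Subgroup.mem_center_iff.mp hz ⟨a, ha⟩))
  haveI := hcyc
  set P' := (P : Subgroup H).map H.subtype with hP'
  haveI : IsCyclic (P'.subgroupOf C) := inferInstance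
  haveI : IsCyclic P' := isCyclic_of_surjective (subgroupOfEquivOfLe hPC).toMonoidHom (subgroupOfEquivOfLe hPC).surjective
  obtain ⟨⟨x, hxP⟩, hxgen⟩ := IsCyclic.exists_generator (α := P')
  have hxP' : zpowers x = P' := le_antisymm (zpowers_le.mpr hxP) fun y hy => by
    obtain ⟨i, hi⟩ := mem_zpowers_iff.mp (hxgen ⟨y, hy⟩)
    exact mem_zpowers_iff.mpr ⟨i, by simpa using congrArg Subtype.val hi⟩
  have hxne : x ≠ 1 := fun e => by
    have h3 := mem_map_of_mem H.subtype z.2
    rw [← hP', ← hxP', e, zpowers_one_eq_bot, mem_bot] at h3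
    exact hz'1 h3
  obtain ⟨j, hj⟩ := (P.2.map H.subtype) ⟨x, hxP⟩
  have hxj : x ^ p ^ j = 1 := by simpa using congrArg Subtype.val hj
  have hxt := hsemi x hxne ⟨j, hxj⟩
  obtain ⟨-, hxcard⟩ := SL2Tori.isCyclic_centralizer hxt
  have hCx : Nat.card (centralizer ({x} : Set SL)) = Fintype.card F - 1 := by
    rcases hxcard with e | e
    · exact e
    · exfalso
      have hord : p ∣ orderOf x := by
        obtain ⟨i, -, hi⟩ := (Nat.dvd_prime_pow hp).mp (orderOf_dvd_of_pow_eq_one hxj)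
        rcases Nat.eq_zero_or_pos i with rfl | hi0
        · exact absurd (orderOf_eq_one_iff.mp (hi.trans (pow_zero p))) hxne
        · exact hi ▸ dvd_pow_self p hi0.ne'
      have h3 : p ∣ Fintype.card F + 1 :=
        e ▸ hord.trans (Subgroup.orderOf_dvd_natCard _ (mem_centralizer_singleton_iff.mpr rfl))
      have h5 := Nat.dvd_sub h3 hdvd
      have hq : 0 < Fintype.card F := Fintype.card_pos
      rw [show Fintype.card F + 1 - (Fintype.card F - 1) = 2 by omega] at h5
      exact hp2 ((Nat.prime_dvd_prime_iff_eq hp Nat.prime_two).mp h5)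
  rw [← hCx, ← SL2Tori.card_normalizer h2 hxt,
    ← card_map_of_injective (K := normalizer ((P : Subgroup H) : Set H)) H.subtype_injective]
  refine Subgroup.card_dvd_of_le ?_
  rintro _ ⟨n, hn, rfl⟩
  refine SL2Tori.mem_normalizer_centralizer (SL2Tori.conj_mem_cases h2 hxt ?_)
  obtain ⟨a, ha, hax⟩ := hxP
  have hconj : (n : SL) * x * (n : SL)⁻¹ ∈ P' := ⟨n * a * n⁻¹, (mem_normalizer_iff.mp hn a).mp ha, by
    rw [← hax]; rfl⟩
  rw [← hxP'] at hconj
  obtain ⟨i, hi⟩ := mem_zpowers_iff.mp hconj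
  refine mem_centralizer_singleton_iff.mpr ?_
  show H.subtype n * x * (H.subtype n)⁻¹ * x = x * (H.subtype n * x * (H.subtype n)⁻¹)
  rw [show H.subtype n * x * (H.subtype n)⁻¹ = x ^ i from hi.symm]
  exact (Commute.zpow_self x i).eq

/-- The shape of a subgroup containing `-1`. -/
theorem sylow_shape (hodd : Odd (Fintype.card F)) {p : ℕ} [Fact p.Prime] (hp2 : p ≠ 2)
    (hdvd : p ∣ Fintype.card F - 1) (H : Subgroup SL) (hH : p ∣ Nat.card H) (hneg : (-1 : SL) ∈ H) {e : ℕ}
    (he : p ^ e ∣ Nat.card H) :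
    ∃ (P : Sylow p H) (d n : ℕ), Nat.card (normalizer ((P : Subgroup H) : Set H)) = d ∧
      d * n = Nat.card H ∧ d ∣ 2 * (Fintype.card F - 1) ∧ p ^ e ∣ d ∧ 2 ∣ d ∧ n ≡ 1 [MOD p ^ e] := by
  obtain ⟨P⟩ := (inferInstance : Nonempty (Sylow p H))
  obtain ⟨h1, h2⟩ := normalizer_bound hodd hp2 hdvd H hH P
  have hPe : p ^ e ∣ Nat.card (P : Subgroup H) := P.pow_dvd_card_of_pow_dvd_card he
  refine ⟨P, _, Nat.card (Sylow p H), rfl, ?_, h1, hPe.trans (card_dvd_of_le le_normalizer), ?_, h2.of_dvd hPe⟩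
  · rw [Sylow.card_eq_index_normalizer P]; exact card_mul_index _
  · have h2' := SL2Orders.two_ne_zero_of_odd hodd
    have hm1 : (-1 : SL) ≠ 1 := fun e => h2' (by
      have := congrArg (fun g : SL => g.1 0 0) e
      simp at this
      linear_combination -this)
    have hord : orderOf (⟨-1, hneg⟩ : H) = 2 := orderOf_eq_prime (Subtype.ext (by simp)) fun e =>
      hm1 (congrArg Subtype.val e)
    have h3 : orderOf (⟨-1, hneg⟩ : H) ∣ Nat.card (normalizer ((P : Subgroup H) : Set H)) :=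
      Subgroup.orderOf_dvd_natCard _ (centralizer_le_normalizer _
        (mem_centralizer_iff.mpr fun s _ => Subtype.ext (neg_one_central (s : SL))))
    rwa [hord] at h3

end CfsgLib.HallNumbers
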